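import Cfsg.Agent.SFT49.Fermat
import Cfsg.Agent.SFT45.Final

/-!
The solvable signalizer functor theorem.
-/

set_option autoImplicit false
set_option linter.style.haveILetI false

universe u

namespace Cfsg.Agent.SFT49

open Subgroup Coprime Signal38 SFT45
open scoped commutatorElement IsMulCommutative Pointwise

variable {G : Type u} [Group G] [Finite G] {p : ℕ} [hp : Fact p.Prime] {A : Subgroup G}
  {θ : G → Subgroup G}

/-- There is no minimal counterexample. -/
theorem IsMinBad.false (hm : IsMinBad p A θ) : False := by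
  haveI := Fact.mk Nat.prime_two
  by_cases hodd : ∀ a ∈ A, a ≠ 1 → Odd (Nat.card (θ a))
  · exact hm.bad (completable_of_odd hm.elem hm.rank hm.func hodd)
  push Not at hodd
  obtain ⟨a, ha, ha1, hev⟩ := hodd
  have h2 : 2 ∣ Nat.card (θ a) := by
    rw [← even_iff_two_dvd, ← Nat.not_odd_iff_even]
    exact hev
  have hθ := theta_mem_family hm.func ha ha1
  obtain ⟨S, hS⟩ := Coprime.exists_invariant_sylow A (θ a) (member_normalizer hθ) (hm.coprime hθ)
    (Or.inr hθ.1) 2
  obtain ⟨Q, hSQ, hQ⟩ := exists_isMaxQ_ge (family_of_le' hθ (map_subtype_le _) hS)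
    (S.isPGroup'.map (θ a).subtype)
  refine hm.false_of_isMaxQ_ne_bot hQ fun h => S.ne_bot_of_dvd_card h2 ?_
  exact (map_eq_bot_iff_of_injective _ (θ a).subtype_injective).mp (le_bot_iff.mp (hSQ.trans h.le))

theorem completable_aux : ∀ (n : ℕ) (H : Type u) [Group H]
    [Finite H] (B : Subgroup H) (σ : H → Subgroup H), mass B σ = n → IsElementaryAbelian p B →
    p ^ 3 ≤ Nat.card B → IsSolvableSignalizerFunctor p B σ → Completable p B σ := by
  intro n
  induction n using Nat.strong_induction_on with
  | _ n IH =>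
  intro H _ _ B σ hn hB hB3 hσ
  by_contra hbad
  exact IsMinBad.false (⟨hB, hB3, hσ, hbad,
    fun K _ _ C τ hC hC3 hτ hlt => IH _ (hn ▸ hlt) K C τ rfl hC hC3 hτ⟩ : IsMinBad p B σ)

/-- The solvable signalizer functor theorem. -/
theorem completable (hA : IsElementaryAbelian p A) (hA3 : p ^ 3 ≤ Nat.card A)
    (hθ : IsSolvableSignalizerFunctor p A θ) : Completable p A θ :=
  completable_aux _ G A θ rfl hA hA3 hθ

theorem isComplete (hA : IsElementaryAbelian p A) (hA3 : p ^ 3 ≤ Nat.card A)
    (hθ : IsSolvableSignalizerFunctor p A θ) : IsCompleteSignalizerFunctor p A θ :=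
  isComplete_of_completable hθ (completable hA hA3 hθ)

end Cfsg.Agent.SFT49
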