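import Cfsg.Agent.SFT49.Prune
import Cfsg.Agent.SFT45.Main

/-!
Absorption: `K_q` lies in `O_q(M)` for every maximal member `M` containing the intersection of the
values, as soon as `O_q(M)` is nontrivial.
-/

set_option autoImplicit false
set_option linter.style.haveILetI false
set_option maxHeartbeats 400000

universe u

namespace Cfsg.Agent.SFT49

open Subgroup Coprime Signal38 SFT45
open scoped commutatorElement IsMulCommutative Pointwise

variable {G : Type u} [Group G] [Finite G] {p : ℕ} [hp : Fact p.Prime] {A : Subgroup G}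
  {θ : G → Subgroup G}

namespace IsMinBad

variable (hm : IsMinBad p A θ) {q : ℕ} [hq : Fact q.Prime]
include hm

omit hq in
theorem signalizerInf_mem_family : signalizerInf A θ ∈ signalizerFamily p A θ := by
  obtain ⟨b, hb, -, hb1⟩ := exists_mem_inf hm.elem hm.rank
    (⟨le_rfl, Nat.le_mul_of_pos_left _ hp.out.pos⟩ : IsHyp p A A) ⟨le_rfl, Nat.le_mul_of_pos_left _ hp.out.pos⟩
  exact family_of_le' (theta_mem_family hm.func hb hb1) (signalizerInf_le hb hb1)
    ((le_centralizer_iff.mp (signalizerInf_le_centralizer hm.func.1 le_rfl)).trans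
      (centralizer_le_normalizer _))

/-- A `q`-subgroup of a member contained, for each hyperplane `B`, in a `q`-group normalized by
`C_H(B)` lies in `O_q(H)`. -/
theorem le_pCoreOf_of_forall_hyp {H D : Subgroup G} (hH : H ∈ signalizerFamily p A θ) (hDH : D ≤ H)
    (hDq : IsPGroup q D) (h : ∀ B : Subgroup G, IsHyp p A B → ∃ T : Subgroup G, IsPGroup q T ∧
      D ≤ T ∧ H ⊓ centralizer (B : Set G) ≤ normalizer (T : Set G)) : D ≤ pCoreOf q H := by
  set R : Subgroup H := pCore q H with hR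
  let π : H →* H ⧸ R := QuotientGroup.mk' R
  set F : Subgroup (H ⧸ R) := pPrimeCore q (H ⧸ R) with hF
  set D' : Subgroup (H ⧸ R) := (D.subgroupOf H).map π with hD'
  haveI : (F.comap π).Characteristic := by
    refine characteristic_iff_le_comap.mpr fun e x hx => ?_
    have hRe : R.map e.toMonoidHom = R := characteristic_iff_map_eq.mp inferInstance e
    let e' : H ⧸ R ≃* H ⧸ R := QuotientGroup.congr R R e hRe
    have h1 : F.map e'.toMonoidHom = F := Thompson.map_pPrimeCore_equiv e'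
    show π (e x) ∈ F
    rw [← h1]
    exact ⟨π x, hx, QuotientGroup.congr_mk R R e hRe x⟩
  set N : Subgroup G := (F.comap π).map H.subtype with hN
  have hAN : A ≤ normalizer (N : Set G) :=
    (member_normalizer hH).trans (Coprime.normalizer_le_normalizer_map H _)
  have hNH : N ≤ H := map_subtype_le _
  have hkey : N ≤ ((centralizer (D' : Set (H ⧸ R))).comap π).map H.subtype := by
    refine le_of_forall_hyp hm.elem hAN ((family_coprime hH).coprime_dvd_right (card_dvd_of_le hNH))
      fun B hB n hn => ?_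
    obtain ⟨T, hT, hDT, hTn⟩ := h B hB
    obtain ⟨hnN, hnB⟩ := mem_inf.mp hn
    obtain ⟨n', hn', rfl⟩ := hnN
    refine ⟨n', mem_centralizer_iff.mpr ?_, rfl⟩
    rintro _ ⟨x, hx, rfl⟩
    refine (commutatorElement_eq_one_iff_mul_comm.mp ?_).symm
    rw [← map_commutatorElement]
    have hxT : (x : G) ∈ T := hDT (mem_subgroupOf.mp hx)
    have hcT : ((⁅n', x⁆ : H) : G) ∈ T :=
      mul_mem (conj_mem_of_mem_normalizer (hTn (mem_inf.mpr ⟨n'.2, hnB⟩)) hxT) (inv_mem hxT)
    have hcF : π ⁅n', x⁆ ∈ F := by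
      rw [commutatorElement_def, mul_assoc, mul_assoc, ← mul_assoc (x : H), map_mul]
      exact mul_mem (show π n' ∈ F from hn') (by
        rw [map_mul, map_mul, map_inv, map_inv]
        exact (inferInstance : F.Normal).conj_mem _ (inv_mem (show π n' ∈ F from hn')) _)
    obtain ⟨k, hk⟩ := hT ⟨_, hcT⟩
    have hk' : (π ⁅n', x⁆) ^ q ^ k = 1 := by
      rw [← map_pow, show (⁅n', x⁆ : H) ^ q ^ k = 1 from Subtype.ext (by
        simpa using congrArg Subtype.val hk), map_one]
    rw [← orderOf_eq_one_iff]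
    refine Nat.eq_one_of_dvd_coprimes
      ((Thompson.card_pPrimeCore_coprime (p := q) (G := H ⧸ R)).symm.pow_left k)
      (orderOf_dvd_of_pow_eq_one hk') ?_
    rw [← Subgroup.orderOf_mk _ hcF]
    exact orderOf_dvd_natCard _
  have hDc : D' ≤ centralizer (F : Set (H ⧸ R)) := by
    rw [le_centralizer_iff]
    intro z hz
    obtain ⟨y, rfl⟩ := QuotientGroup.mk'_surjective R z
    obtain ⟨y', hy', he⟩ := hkey ⟨y, hz, rfl⟩
    rw [show y' = y from H.subtype_injective he] at hy'
    exact hy'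
  haveI hsol : Group.IsSolvable (H ⧸ R) :=
    haveI := hH.1
    Group.isSolvable_of_surjective (QuotientGroup.mk'_surjective R)
  have hfit : fittingSubgroup (H ⧸ R) ≤ F := by
    rw [Fitting.fitting_eq_iSup_pCore]
    refine iSup_le fun r => ?_
    haveI : Fact (r : ℕ).Prime := ⟨r.2⟩
    rcases eq_or_ne (r : ℕ) q with h | h
    · rw [h]
      exact (Thompson.pCore_quotient_pCore (p := q) (G := H)).le.trans bot_le
    · refine Thompson.le_pPrimeCore inferInstance ?_
      obtain ⟨m, hm'⟩ := IsPGroup.iff_card.mp (Thompson.isPGroup_pCore (p := (r : ℕ)) (G := H ⧸ R))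
      rw [hm']
      exact Nat.Coprime.pow_left m ((Nat.coprime_primes r.2 hq.out).mpr h)
  have hD'F : D' ≤ F := ((hDc.trans (centralizer_le hfit)).trans Fitting.centralizer_fitting_le).trans hfit
  have hD'q : IsPGroup q D' := (hDq.of_equiv (subgroupOfEquivOfLe hDH).symm).map π
  intro x hx
  refine ⟨⟨x, hDH hx⟩, (QuotientGroup.eq_one_iff _).mp ?_, rfl⟩
  rw [← mem_bot, ← Thompson.inf_eq_bot_of_isPGroup_of_coprime hD'q
    (Thompson.card_pPrimeCore_coprime (p := q) (G := H ⧸ R))]
  exact ⟨⟨⟨x, hDH hx⟩, hx, rfl⟩, hD'F ⟨⟨x, hDH hx⟩, hx, rfl⟩⟩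

/-- For each hyperplane `B` a `q`-member containing `K_q`, inside every maximal `q`-member, and
normalized by every invariant part of `θ_B`. -/
theorem exists_normalized_qMember (hK : bigK p q A θ ≠ ⊥) {B : Subgroup G} (hB : IsHyp p A B) :
    ∃ J ∈ signalizerFamily p A θ, IsPGroup q J ∧ bigK p q A θ ≤ J ∧
      (∀ Q, IsMaxQ p q A θ Q → J ≤ Q) ∧
      ∀ U ∈ signalizerFamily p A θ, U ≤ signalizerInf B θ → U ≤ normalizer (J : Set G) := by
  obtain ⟨Q, hQ⟩ := hm.exists_isMaxQ (q := q)
  set P := ⨆ f : {f : G // f ∈ B ∧ f ≠ 1}, pCoreOf q (θ (f : G)) with hP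
  have hPQ : P ≤ Q := iSup_le fun f => hm.core_le_isMaxQ hQ (hB.1 f.2.1) f.2.2
  have hPfam : P ∈ signalizerFamily p A θ := family_of_le' hQ.1.1 hPQ (le_normalizer_iSup fun f =>
    (member_normalizer (theta_mem_family hm.func (hB.1 f.2.1) f.2.2)).trans
      normalizer_le_normalizer_pCoreOf)
  have hKP : bigK p q A θ ≤ P := iSup_le fun B' => by
    obtain ⟨f, hf, hf', hf1⟩ := exists_mem_inf hm.elem hm.rank hB B'.2
    exact (delta_le hf' hf1).trans
      (le_iSup (fun f : {f : G // f ∈ B ∧ f ≠ 1} => pCoreOf q (θ (f : G))) ⟨f, hf, hf1⟩)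
  have hPne : P ≠ ⊥ := fun h => hK (le_bot_iff.mp (hKP.trans h.le))
  obtain ⟨H, hH, hHP, hHmax⟩ := hm.exists_normalizer_member hPfam hPne
  have hPH : P ≤ H := hHmax P hPfam le_normalizer
  have hnP : ∀ U : Subgroup G, U ≤ signalizerInf B θ → U ≤ normalizer (P : Set G) := fun U hU =>
    hU.trans (le_normalizer_iSup fun f => (signalizerInf_le f.2.1 f.2.2).trans le_normalizer_pCoreOf)
  have hJfam : pCoreOf q H ∈ signalizerFamily p A θ := family_of_le' hH pCoreOf_le
    ((member_normalizer hH).trans normalizer_le_normalizer_pCoreOf)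
  refine ⟨pCoreOf q H, hJfam, isPGroup_pCoreOf,
    hKP.trans (le_pCoreOf hPH hHP (hQ.1.2.to_le hPQ)), fun Q' hQ' => ?_, fun U hU hUB => ?_⟩
  · refine hm.le_isMaxQ hJfam isPGroup_pCoreOf (le_trans (hHmax _ hm.signalizerInf_mem_family
      (hnP _ ?_)) le_normalizer_pCoreOf) hQ'
    exact fun x hx => mem_signalizerInf.mpr fun b hb hb1 => mem_signalizerInf.mp hx b (hB.1 hb) hb1
  · exact (hHmax U hU (hnP U hUB)).trans le_normalizer_pCoreOf

/-- The part of `K_q` inside a member lies in its `q`-core. -/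
theorem inf_bigK_le_pCoreOf {H : Subgroup G} (hH : H ∈ signalizerFamily p A θ) :
    H ⊓ bigK p q A θ ≤ pCoreOf q H := by
  rcases eq_or_ne (bigK p q A θ) ⊥ with hK | hK
  · rw [hK, inf_bot_eq]
    exact bot_le
  refine hm.le_pCoreOf_of_forall_hyp hH inf_le_left (hm.bigK_mem_family.2.to_le inf_le_right)
    fun B hB => ?_
  obtain ⟨J, -, hJq, hKJ, -, hJn⟩ := hm.exists_normalized_qMember hK hB
  exact ⟨J, hJq, inf_le_right.trans hKJ, hJn _ (family_of_le' hH inf_le_left
    (Coprime.le_normalizer_inf (member_normalizer hH) (le_normalizer_centralizer_of_le hm.elem hB.1)))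
    (inf_centralizer_le_signalizerInf hH hB.1)⟩

/-- `K_q` lies in `O_q(M)`. -/
theorem bigK_le_of_maximal {M : Subgroup G} (hM : M ∈ signalizerFamily p A θ)
    (hAM : signalizerInf A θ ≤ M) (hmax : ∀ U ∈ signalizerFamily p A θ, M ≤ U → U = M)
    (hR : pCoreOf q M ≠ ⊥) : bigK p q A θ ≤ pCoreOf q M := by
  classical
  rcases eq_or_ne (bigK p q A θ) ⊥ with hK | hK
  · rw [hK]
    exact bot_le
  set R := pCoreOf q M with hRd
  have hAR : A ≤ normalizer (R : Set G) :=
    (member_normalizer hM).trans normalizer_le_normalizer_pCoreOf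
  have hRfam : R ∈ signalizerFamily p A θ := family_of_le' hM pCoreOf_le hAR
  choose J hJ hJq hKJ hJQ hJn using fun B : {B : Subgroup G // IsHyp p A B} =>
    hm.exists_normalized_qMember hK B.2
  obtain ⟨Q, hQ⟩ := hm.exists_isMaxQ (q := q)
  have hRQ : R ≤ Q :=
    hm.le_isMaxQ hRfam isPGroup_pCoreOf (hAM.trans le_normalizer_pCoreOf) hQ
  set T : Subgroup G := ⨅ B, J B ⊔ R with hT
  have hB0 : IsHyp p A A := ⟨le_rfl, Nat.le_mul_of_pos_left _ hp.out.pos⟩
  have hTQ : T ≤ Q := (iInf_le (fun B => J B ⊔ R) ⟨A, hB0⟩).trans (sup_le (hJQ _ Q hQ) hRQ)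
  have hRT : R ≤ T := le_iInf fun B => le_sup_right
  have hAT : A ≤ normalizer (T : Set G) := SFT45.le_normalizer_iInf fun B =>
    Coprime.le_normalizer_sup (member_normalizer (hJ B)) hAR
  have hD : M ⊓ T ≤ R := by
    refine hm.le_pCoreOf_of_forall_hyp hM inf_le_left (hQ.1.2.to_le (inf_le_right.trans hTQ))
      fun B hB => ⟨J ⟨B, hB⟩ ⊔ R, hQ.1.2.to_le (sup_le (hJQ _ Q hQ) hRQ),
        inf_le_right.trans (iInf_le (fun B => J B ⊔ R) ⟨B, hB⟩), ?_⟩
    refine Coprime.le_normalizer_sup (hJn ⟨B, hB⟩ _ (family_of_le' hM inf_le_left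
      (Coprime.le_normalizer_inf (member_normalizer hM) (le_normalizer_centralizer_of_le hm.elem hB.1)))
      (inf_centralizer_le_signalizerInf hM hB.1)) (inf_le_left.trans le_normalizer_pCoreOf)
  have hTR : R = T := by
    by_contra hne
    refine normalizer_inf_not_le (hQ.1.2.to_le hTQ) hRT hne (le_trans (le_inf ?_ inf_le_right) hD)
    obtain ⟨N, hN, -, hNmax⟩ := hm.exists_normalizer_member hRfam hR
    rw [← hmax N hN (hNmax M hM le_normalizer_pCoreOf)]
    exact hNmax _ (family_of_le' (family_of_le' hQ.1.1 hTQ hAT) inf_le_right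
      (Coprime.le_normalizer_inf (Coprime.le_normalizer_normalizer hAR) hAT)) inf_le_left
  rw [hTR]
  exact le_iInf fun B => (hKJ B).trans le_sup_left

end IsMinBad

end Cfsg.Agent.SFT49
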