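import Cfsg.Agent.SFT49.Functor
import Cfsg.Agent.SFT45.Flavell

/-!
The subgroups `Δ_q(B)` of a signalizer functor and the absorbing `q`-group `K_q` they generate.
-/

set_option autoImplicit false
set_option linter.style.haveILetI false

universe u

namespace Cfsg.Agent.SFT49

open Subgroup Coprime Signal38 SFT45
open scoped commutatorElement IsMulCommutative Pointwise

variable {G : Type u} [Group G] [Finite G]

variable {p : ℕ} [hp : Fact p.Prime] {A : Subgroup G} {θ : G → Subgroup G}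

namespace IsMinBad

variable (hm : IsMinBad p A θ) {q : ℕ} [hq : Fact q.Prime]
include hm

omit hq in
theorem le_centralizer_theta {a b : G} (ha : a ∈ A) (hb : b ∈ A) (hb1 : b ≠ 1) :
    signalizerInf A θ ≤ centralizer ({a} : Set G) ⊓ θ b :=
  le_inf ((signalizerInf_le_centralizer hm.func.1 le_rfl).trans
    (centralizer_le (Set.singleton_subset_iff.mpr ha))) (signalizerInf_le hb hb1)

theorem core_mem_family {a : G} (ha : a ∈ A) (ha1 : a ≠ 1) :
    pCoreOf q (θ a) ∈ signalizerFamily p A θ :=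
  family_of_le' (theta_mem_family hm.func ha ha1) pCoreOf_le
    ((member_normalizer (theta_mem_family hm.func ha ha1)).trans normalizer_le_normalizer_pCoreOf)

/-- An invariant `q`-member lies in every maximal `q`-member. -/
theorem le_isMaxQ {U Q : Subgroup G} (hU : U ∈ signalizerFamily p A θ) (hUq : IsPGroup q U)
    (hn : signalizerInf A θ ≤ normalizer (U : Set G)) (hQ : IsMaxQ p q A θ Q) : U ≤ Q := by
  obtain ⟨Q0, hUQ, hQ0⟩ := exists_isMaxQ_ge hU hUq
  obtain ⟨c, hc, he⟩ := isMaxQ_conj hm.elem hm.rank hm.func hQ0 hQ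
  rw [← he, ← (Subgroup.mem_normalizer_iff_map_conj_eq.mp (hn hc))]
  exact map_mono hUQ

theorem core_le_isMaxQ {Q : Subgroup G} (hQ : IsMaxQ p q A θ Q) {a : G} (ha : a ∈ A) (ha1 : a ≠ 1) :
    pCoreOf q (θ a) ≤ Q :=
  hm.le_isMaxQ (hm.core_mem_family ha ha1) isPGroup_pCoreOf
    ((signalizerInf_le ha ha1).trans le_normalizer_pCoreOf) hQ

theorem delta_mem_family {B : Subgroup G} (hB : IsHyp p A B) :
    delta q θ B ∈ signalizerFamily p A θ ∧ IsPGroup q (delta q θ B) := by
  obtain ⟨b, hb, -, hb1⟩ := exists_mem_inf hm.elem hm.rank hB hB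
  exact ⟨family_of_le' (hm.core_mem_family (hB.1 hb) hb1) (delta_le hb hb1)
    (le_normalizer_iInf fun c => (member_normalizer (theta_mem_family hm.func (hB.1 c.2.1) c.2.2)).trans
      normalizer_le_normalizer_pCoreOf), isPGroup_pCoreOf.to_le (delta_le hb hb1)⟩

omit hq in
theorem signalizerInf_le_normalizer_delta {B : Subgroup G} :
    signalizerInf B θ ≤ normalizer (delta q θ B : Set G) :=
  le_normalizer_iInf fun c => (signalizerInf_le c.2.1 c.2.2).trans le_normalizer_pCoreOf

theorem delta_le_centralizer {B : Subgroup G} (hB : IsHyp p A B) :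
    delta q θ B ≤ centralizer (B : Set G) :=
  le_trans (fun _ hx => mem_signalizerInf.mpr fun _ hb hb1 => pCoreOf_le (delta_le hb hb1 hx))
    (signalizerInf_le_centralizer hm.func.1 hB.1)

theorem delta_le_isMaxQ {Q : Subgroup G} (hQ : IsMaxQ p q A θ Q) {B : Subgroup G}
    (hB : IsHyp p A B) : delta q θ B ≤ Q := by
  obtain ⟨b, hb, -, hb1⟩ := exists_mem_inf hm.elem hm.rank hB hB
  exact (delta_le hb hb1).trans (hm.core_le_isMaxQ hQ (hB.1 hb) hb1)

theorem bigK_le_isMaxQ {Q : Subgroup G} (hQ : IsMaxQ p q A θ Q) : bigK p q A θ ≤ Q :=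
  iSup_le fun B => hm.delta_le_isMaxQ hQ B.2

theorem exists_isMaxQ : ∃ Q, IsMaxQ p q A θ Q := by
  obtain ⟨Q, -, hQ⟩ := exists_isMaxQ_ge (p := p) (A := A) (θ := θ) (q := q) bot_mem_family
    IsPGroup.of_bot
  exact ⟨Q, hQ⟩

theorem bigK_mem_family : bigK p q A θ ∈ signalizerFamily p A θ ∧ IsPGroup q (bigK p q A θ) := by
  obtain ⟨Q, hQ⟩ := hm.exists_isMaxQ (q := q)
  exact ⟨family_of_le' hQ.1.1 (hm.bigK_le_isMaxQ hQ)
    (le_normalizer_iSup fun B => member_normalizer (hm.delta_mem_family B.2).1),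
    hQ.1.2.to_le (hm.bigK_le_isMaxQ hQ)⟩

/-- `Δ_q(B)` lies in `O_q(H)` for each member `H` containing it. -/
theorem delta_le_pCoreOf {B H : Subgroup G} (hB : IsHyp p A B) (hH : H ∈ signalizerFamily p A θ)
    (hD : delta q θ B ≤ H) : delta q θ B ≤ pCoreOf q H := by
  set R : Subgroup H := pCore q H with hR
  let π : H →* H ⧸ R := QuotientGroup.mk' R
  set F : Subgroup (H ⧸ R) := pPrimeCore q (H ⧸ R) with hF
  set D' : Subgroup (H ⧸ R) := ((delta q θ B).subgroupOf H).map π with hD'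
  haveI : (F.comap π).Characteristic := by
    refine characteristic_iff_le_comap.mpr fun e x hx => ?_
    have hRe : R.map e.toMonoidHom = R := characteristic_iff_map_eq.mp inferInstance e
    let e' : H ⧸ R ≃* H ⧸ R := QuotientGroup.congr R R e hRe
    have h1 : F.map e'.toMonoidHom = F := Thompson.map_pPrimeCore_equiv e'
    show π (e x) ∈ F
    rw [← h1]
    exact ⟨π x, hx, QuotientGroup.congr_mk R R e hRe x⟩
  set N : Subgroup G := (F.comap π).map H.subtype with hN
  have hAH : A ≤ normalizer (H : Set G) := member_normalizer hH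
  have hAN : A ≤ normalizer (N : Set G) := hAH.trans (Coprime.normalizer_le_normalizer_map H _)
  have hNH : N ≤ H := map_subtype_le _
  haveI : IsMulCommutative B := ⟨⟨fun x y => Subtype.ext (comm_of_mem hm.elem (hB.1 x.2) (hB.1 y.2))⟩⟩
  have hkey : N ≤ ((centralizer (D' : Set (H ⧸ R))).comap π).map H.subtype := by
    refine Coprime.le_of_centralizer_le B N _ (hB.not_isCyclic hm.elem hm.rank) (hB.1.trans hAN)
      (((hm.coprime hH).coprime_dvd_left (card_dvd_of_le hB.1)).coprime_dvd_right (card_dvd_of_le hNH))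
      fun b hb hb1 n hn => ?_
    obtain ⟨hnN, hnb⟩ := mem_inf.mp hn
    obtain ⟨n', hn', rfl⟩ := hnN
    refine ⟨n', mem_centralizer_iff.mpr ?_, rfl⟩
    rintro _ ⟨x, hx, rfl⟩
    refine (commutatorElement_eq_one_iff_mul_comm.mp ?_).symm
    rw [← map_commutatorElement]
    have hxE : (x : G) ∈ pCoreOf q (θ b) := delta_le hb hb1 (mem_subgroupOf.mp hx)
    have hnθ : (n' : G) ∈ θ b := hH.2.2.2 b (hB.1 hb) hb1 (mem_inf.mpr ⟨n'.2, hnb⟩)
    have hcE : ((⁅n', x⁆ : H) : G) ∈ pCoreOf q (θ b) :=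
      mul_mem (conj_mem_of_mem_normalizer (le_normalizer_pCoreOf hnθ) hxE) (inv_mem hxE)
    have hcF : π ⁅n', x⁆ ∈ F := by
      rw [commutatorElement_def, mul_assoc, mul_assoc, ← mul_assoc (x : H), map_mul]
      exact mul_mem (show π n' ∈ F from hn') (by
        rw [map_mul, map_mul, map_inv, map_inv]
        exact (inferInstance : F.Normal).conj_mem _ (inv_mem (show π n' ∈ F from hn')) _)
    obtain ⟨k, hk⟩ := isPGroup_pCoreOf (q := q) (H := θ b) ⟨_, hcE⟩
    have hk' : (π ⁅n', x⁆) ^ q ^ k = 1 := by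
      rw [← map_pow, show (⁅n', x⁆ : H) ^ q ^ k = 1 from Subtype.ext (by
        simpa using congrArg Subtype.val hk), map_one]
    rw [← orderOf_eq_one_iff]
    refine Nat.eq_one_of_dvd_coprimes
      ((Thompson.card_pPrimeCore_coprime (p := q) (G := H ⧸ R)).symm.pow_left k)
      (orderOf_dvd_of_pow_eq_one hk') ?_
    rw [← Subgroup.orderOf_mk _ hcF]
    exact orderOf_dvd_natCard _
  have hDc : D' ≤ centralizer (F : Set (H ⧸ R)) := by
    rw [le_centralizer_iff]
    intro z hz
    obtain ⟨y, rfl⟩ := QuotientGroup.mk'_surjective R z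
    obtain ⟨y', hy', he⟩ := hkey ⟨y, hz, rfl⟩
    rw [show y' = y from H.subtype_injective he] at hy'
    exact hy'
  haveI hsol : Group.IsSolvable (H ⧸ R) :=
    haveI := hH.1
    Group.isSolvable_of_surjective (QuotientGroup.mk'_surjective R)
  have hfit : fittingSubgroup (H ⧸ R) ≤ F := by
    rw [Fitting.fitting_eq_iSup_pCore]
    refine iSup_le fun r => ?_
    haveI : Fact (r : ℕ).Prime := ⟨r.2⟩
    rcases eq_or_ne (r : ℕ) q with h | h
    · rw [h]
      exact (Thompson.pCore_quotient_pCore (p := q) (G := H)).le.trans bot_le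
    · refine Thompson.le_pPrimeCore inferInstance ?_
      obtain ⟨m, hm'⟩ := IsPGroup.iff_card.mp (Thompson.isPGroup_pCore (p := (r : ℕ)) (G := H ⧸ R))
      rw [hm']
      exact Nat.Coprime.pow_left m ((Nat.coprime_primes r.2 hq.out).mpr h)
  have hD'F : D' ≤ F := ((hDc.trans (centralizer_le hfit)).trans Fitting.centralizer_fitting_le).trans hfit
  have hD'q : IsPGroup q D' :=
    ((hm.delta_mem_family hB).2.of_equiv (subgroupOfEquivOfLe hD).symm).map π
  intro x hx
  refine ⟨⟨x, hD hx⟩, (QuotientGroup.eq_one_iff _).mp ?_, rfl⟩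
  rw [← mem_bot, ← Thompson.inf_eq_bot_of_isPGroup_of_coprime hD'q
    (Thompson.card_pPrimeCore_coprime (p := q) (G := H ⧸ R))]
  exact ⟨⟨⟨x, hD hx⟩, hx, rfl⟩, hD'F ⟨⟨x, hD hx⟩, hx, rfl⟩⟩

/-- `K_q` is absorbing. -/
theorem bigK_le_pCoreOf {H : Subgroup G} (hH : H ∈ signalizerFamily p A θ)
    (hK : bigK p q A θ ≤ H) : bigK p q A θ ≤ pCoreOf q H :=
  iSup_le fun B => hm.delta_le_pCoreOf B.2 hH
    ((le_iSup (fun B : {B : Subgroup G // IsHyp p A B} => delta q θ (B : Subgroup G)) B).trans hK)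

/-- `K_q` and `K_r` commute. -/
theorem bigK_le_centralizer {r : ℕ} [Fact r.Prime] (hqr : q ≠ r) :
    bigK p q A θ ≤ centralizer (bigK p r A θ : Set G) := by
  refine iSup_le fun B => ?_
  rw [le_centralizer_iff]
  refine iSup_le fun B' => ?_
  rw [le_centralizer_iff]
  obtain ⟨f, hf, hf', hf1⟩ := exists_mem_inf hm.elem hm.rank B.2 B'.2
  refine (delta_le hf hf1).trans (le_trans ?_ (centralizer_le (delta_le hf' hf1)))
  exact le_centralizer_of_coprime (pCoreOf_le.trans le_normalizer_pCoreOf)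
    (pCoreOf_le.trans le_normalizer_pCoreOf) (coprime_of_isPGroup hqr isPGroup_pCoreOf isPGroup_pCoreOf)

/-- Flavell's lemma in a member. -/
theorem commutator_le_core (hexc : q = 2 → ¬ ∃ m, p = 2 ^ m + 1) {H P : Subgroup G} (hH : H ∈ signalizerFamily p A θ) {a : G} (ha : a ∈ A)
    (hPH : P ≤ H) (hP : IsPGroup q P) (haP : a ∈ normalizer (P : Set G))
    (hCP : H ⊓ centralizer ({a} : Set G) ≤ normalizer (P : Set G)) :
    ⁅P, zpowers a⁆ ≤ pCoreOf q H := by
  rcases eq_or_ne P ⊥ with rfl | hne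
  · rw [commutator_bot_left]
    exact bot_le
  exact commutator_le_pCoreOf hexc H P hH.1 a (hm.elem.2 a ha)
    (member_normalizer hH ha) hH.2.1 hPH hP haP hCP

/-- `⁅J, a⁆ ≤ K_q` for a `q`-member `J` normalized by `θ a`. -/
theorem commutator_le_bigK (hexc : q = 2 → ¬ ∃ m, p = 2 ^ m + 1) {J : Subgroup G} (hJ : J ∈ signalizerFamily p A θ) (hJq : IsPGroup q J)
    {a : G} (ha : a ∈ A) (ha1 : a ≠ 1) (hJn : θ a ≤ normalizer (J : Set G)) :
    ⁅J, zpowers a⁆ ≤ bigK p q A θ := by
  haveI := hm.elem.1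
  refine commutator_le_of_pieces A ha
    (fun B : {B : Subgroup G // IsHyp p A B} => centralizer ((B : Subgroup G) : Set G))
    (fun B => le_normalizer_centralizer_of_le hm.elem B.2.1) J _ (member_normalizer hJ)
    (hm.coprime hJ) hJ.1 (fun D hD hAD H hH => ?_) fun B => ?_
  · exact le_of_forall_hyp hm.elem hAD ((family_coprime hJ).coprime_dvd_right (card_dvd_of_le hD))
      fun B hB => hH ⟨B, hB⟩
  · refine le_trans (le_iInf fun d => ?_)
      (le_iSup (fun B : {B : Subgroup G // IsHyp p A B} => delta q θ (B : Subgroup G)) B)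
    obtain ⟨d, hd, hd1⟩ := d
    have hdA : d ∈ A := B.2.1 hd
    have hnC : centralizer ({d} : Set G) ≤ normalizer (centralizer ({d} : Set G) : Set G) := le_normalizer
    refine le_trans (commutator_mono (inf_le_inf_left _
      (centralizer_le (Set.singleton_subset_iff.mpr hd))) le_rfl) ?_
    refine hm.commutator_le_core hexc (theta_mem_family hm.func hdA hd1) ha (hJ.2.2.2 d hdA hd1)
      (hJq.to_le inf_le_left) (mem_normalizer_iff.mpr fun x => ?_) ?_
    · exact mem_normalizer_iff.mp (Coprime.le_normalizer_inf (member_normalizer hJ)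
        ((le_centralizer_singleton hm.elem hdA).trans hnC) ha) x
    · refine Coprime.le_normalizer_inf ?_ (inf_le_left.trans ((hm.func.1.1 d hdA hd1).trans hnC))
      exact fun x hx => hJn (hm.func.1.2.2.2 d hdA hd1 a ha ha1 hx)

end IsMinBad

end Cfsg.Agent.SFT49
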