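import Cfsg.Agent.SFT49.ZCase

/-!
For an odd prime `q` the group `K_q` is centralized by a hyperplane.
-/

set_option autoImplicit false
set_option linter.style.haveILetI false
set_option maxHeartbeats 400000

universe u

namespace Cfsg.Agent.SFT49

open Subgroup Coprime Signal38 SFT45
open scoped commutatorElement IsMulCommutative Pointwise

variable {G : Type u} [Group G] [Finite G] {p : ℕ} [hp : Fact p.Prime] {A : Subgroup G}
  {θ : G → Subgroup G}

theorem card_le_mul_card_inf {P B : Subgroup G} (hB : IsHyp p A B) (hP : P ≤ A) :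
    Nat.card P ≤ p * Nat.card (P ⊓ B : Subgroup G) := by
  have h1 := Subgroup.relIndex_mul_relIndex ⊥ (P ⊓ B) P bot_le inf_le_left
  rw [Subgroup.relIndex_bot_left, Subgroup.relIndex_bot_left, inf_comm P B,
    Subgroup.inf_relIndex_right] at h1
  rw [← h1, mul_comm p, inf_comm P B]
  refine Nat.mul_le_mul_left _ ((Subgroup.relIndex_le_of_le_right hP
    Subgroup.index_ne_zero_of_finite).trans ?_)
  have h2 := Subgroup.relIndex_mul_relIndex ⊥ B A bot_le hB.1
  rw [Subgroup.relIndex_bot_left, Subgroup.relIndex_bot_left] at h2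
  have h3 := hB.2
  rw [← h2, mul_comm p] at h3
  exact Nat.le_of_mul_le_mul_left h3 Nat.card_pos

theorem prime_mul_card_le {X Y : Subgroup G} (hA : IsElementaryAbelian p A) (hXY : X < Y)
    (hYA : Y ≤ A) : p * Nat.card X ≤ Nat.card Y := by
  have hY := (isPGroup_of_elementary hA).to_le hYA
  obtain ⟨i, hi⟩ := IsPGroup.iff_card.mp hY
  obtain ⟨j, hj⟩ := IsPGroup.iff_card.mp (hY.to_le hXY.le)
  have hlt : Nat.card X < Nat.card Y := lt_of_le_of_ne (card_le_of_le hXY.le) fun h =>
    hXY.ne (eq_of_le_of_card_ge hXY.le h.ge)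
  rw [hi, hj] at hlt ⊢
  rw [← pow_succ']
  exact Nat.pow_le_pow_right hp.out.pos ((Nat.pow_lt_pow_iff_right hp.out.one_lt).mp hlt)

namespace IsMinBad

variable (hm : IsMinBad p A θ) {q : ℕ} [hq : Fact q.Prime]
include hm

omit hq in
/-- The elements of a hyperplane with nontrivial `Δ_q` are good for `q`. -/
theorem isGood_of_delta_ne_bot [Fact q.Prime] {B : Subgroup G} (hB : IsHyp p A B)
    (hne : delta q θ B ≠ ⊥) {a : G} (ha : a ∈ B) (ha1 : a ≠ 1) : IsGood p q A θ a := by
  obtain ⟨M, -, hM⟩ :=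
    hm.exists_maxAbove_ge (theta_mem_family hm.func (hB.1 ha) ha1) (le_refl (θ a))
  exact hm.isGood_of_pCoreOf (hB.1 ha) ha1 hM fun h => hne (le_bot_iff.mp
    ((hm.delta_le_pCoreOf hB hM.1 ((delta_le ha ha1).trans (pCoreOf_le.trans hM.2.1))).trans h.le))

/-- For odd `q`, a hyperplane centralizes `K_q`. -/
theorem bigK_le_centralizer_hyp (hq2 : q ≠ 2) :
    ∃ B : Subgroup G, IsHyp p A B ∧ bigK p q A θ ≤ centralizer (B : Set G) := by
  by_cases hK : bigK p q A θ = ⊥
  · exact ⟨A, ⟨le_rfl, Nat.le_mul_of_pos_left _ hp.out.pos⟩, hK.le.trans bot_le⟩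
  by_contra hcon
  push Not at hcon
  obtain ⟨B, hB, hBne⟩ : ∃ B, IsHyp p A B ∧ delta q θ B ≠ ⊥ := by
    by_contra h
    push Not at h
    exact hK (le_bot_iff.mp (iSup_le fun B => (h B B.2).le))
  obtain ⟨B', hB', hBB'⟩ : ∃ B', IsHyp p A B' ∧ ¬ delta q θ B' ≤ centralizer (B : Set G) := by
    by_contra h
    push Not at h
    exact hcon B hB (iSup_le fun B' => h B' B'.2)
  have hB'ne : delta q θ B' ≠ ⊥ := fun h => hBB' (h.le.trans bot_le)
  have hnle : ¬ B ≤ B' := fun h => hBB' ((hm.delta_le_centralizer hB').trans (centralizer_le h))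
  obtain ⟨a, haB, haB', ha1⟩ := exists_mem_inf hm.elem hm.rank hB hB'
  have hnorm : ∀ P : Subgroup G, IsHyp p A P → a ∉ P →
      signalizerInf P θ ≤ normalizer (bigK p q A θ : Set G) := fun P hP haP =>
    hm.signalizerInf_le_normalizer_bigK (fun h => absurd h hq2) hP fun D hD hne => by
      have hgood : ∀ C : Subgroup G, IsHyp p A C → delta q θ C ≠ ⊥ → ¬ P ⊓ C ≤ D →
          ∃ b ∈ P, b ∉ D ∧ IsGood p q A θ b := fun C hC hCne hle => by
        obtain ⟨b, hb, hbD⟩ := SetLike.not_le_iff_exists.mp hle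
        exact ⟨b, hb.1, hbD,
          hm.isGood_of_delta_ne_bot hC hCne hb.2 fun h => hbD (h ▸ one_mem D)⟩
      by_contra hcontra
      have h1 : P ⊓ B ≤ D := by_contra fun h => hcontra (hgood B hB hBne h)
      have h2 : P ⊓ B' ≤ D := by_contra fun h => hcontra (hgood B' hB' hB'ne h)
      have hDlt : p * Nat.card D ≤ Nat.card P :=
        prime_mul_card_le hm.elem (lt_of_le_of_ne hD hne) hP.1
      have heq : ∀ C : Subgroup G, IsHyp p A C → P ⊓ C ≤ D → P ⊓ C = D := fun C hC hle =>
        eq_of_le_of_card_ge hle (Nat.le_of_mul_le_mul_left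
          (hDlt.trans (card_le_mul_card_inf hC hP.1)) hp.out.pos)
      have hDB : D ≤ B ⊓ B' :=
        le_inf ((heq B hB h1).ge.trans inf_le_right) ((heq B' hB' h2).ge.trans inf_le_right)
      set S := D ⊔ zpowers a with hS
      have hSBB : S ≤ B ⊓ B' := sup_le hDB (zpowers_le.mpr ⟨haB, haB'⟩)
      have hSD : p * Nat.card D ≤ Nat.card S :=
        prime_mul_card_le hm.elem (lt_of_le_of_ne le_sup_left fun h =>
          haP (hD (h.ge (mem_sup_right (mem_zpowers a))))) ((hSBB.trans inf_le_left).trans hB.1)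
      have hPB : Nat.card P ≤ p * Nat.card D := by
        rw [← heq B hB h1]
        exact card_le_mul_card_inf hB hP.1
      have hBA : B ≠ A := fun h => hne (le_antisymm hD (h1.trans' (le_inf le_rfl (h ▸ hP.1))))
      have hBlt := prime_mul_card_le hm.elem (lt_of_le_of_ne hB.1 hBA) le_rfl
      have hAP := hP.2
      refine hnle ((eq_of_le_of_card_ge (hSBB.trans inf_le_left) ?_).ge.trans
        (hSBB.trans inf_le_right))
      refine Nat.le_of_mul_le_mul_left ?_ hp.out.pos
      calc p * Nat.card B ≤ Nat.card A := hBlt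
        _ ≤ p * Nat.card P := hAP
        _ ≤ p * Nat.card S := Nat.mul_le_mul_left _ (hPB.trans hSD)
  have haθ : θ a ≤ normalizer (bigK p q A θ : Set G) :=
    hm.theta_le_normalizer_of_notMem (member_normalizer hm.bigK_mem_family.1) (hB.1 haB) ha1 hnorm
  refine hm.false_of_normalized hm.bigK_mem_family.1 hK fun c hc hc1 =>
    hm.theta_le hc hc1 fun P hP _ => ?_
  by_cases haP : a ∈ P
  · exact (signalizerInf_le haP ha1).trans haθ
  · exact hnorm P hP haP

end IsMinBad

end Cfsg.Agent.SFT49
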