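import Cfsg.Agent.SFT49.ZCase

/-!
The centre of a maximal `2`-member moves some `K_t` with `t` odd.
-/

set_option autoImplicit false
set_option linter.style.haveILetI false
set_option maxHeartbeats 400000

universe u

namespace Cfsg.Agent.SFT49

open Subgroup Coprime Signal38 SFT45
open scoped commutatorElement IsMulCommutative Pointwise

variable {G : Type u} [Group G] [Finite G]

/-- In a solvable group an element centralizing a Sylow `q`-subgroup takes each invariant
`q'`-subgroup into `O_{q'}` under commutation. -/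
theorem commutator_mem_pPrimeCore {X : Type*} [Group X] [Finite X] [Group.IsSolvable X] {q : ℕ}
    [hq : Fact q.Prime] (S : Sylow q X) {z : X} (hz : z ∈ centralizer ((S : Subgroup X) : Set X))
    {U : Subgroup X} (hU : (Nat.card U).Coprime q) (hzU : z ∈ normalizer (U : Set X)) {u : X}
    (hu : u ∈ U) : ⁅u, z⁆ ∈ pPrimeCore q X := by
  let π : X →* X ⧸ pPrimeCore q X := QuotientGroup.mk' _
  have hπ : Function.Surjective π := QuotientGroup.mk'_surjective _
  set F := pCore q (X ⧸ pPrimeCore q X) with hF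
  have hO : pPrimeCore q (X ⧸ pPrimeCore q X) = ⊥ := Thompson.pPrimeCore_quotient_pPrimeCore
  haveI : Group.IsSolvable (X ⧸ pPrimeCore q X) := Group.isSolvable_of_surjective hπ
  have hfit : fittingSubgroup (X ⧸ pPrimeCore q X) = F :=
    Components.fitting_eq_pCore_of_pPrimeCore_eq_bot hO
  have hzF : π z ∈ F := by
    rw [← hfit]
    refine Fitting.centralizer_fitting_le (mem_centralizer_iff.mpr fun y hy => ?_)
    rw [hfit] at hy
    obtain ⟨s, hs, rfl⟩ := Thompson.pCore_le_sylow (S.mapSurjective hπ) hy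
    rw [← map_mul, ← map_mul, mem_centralizer_iff.mp hz s hs]
  have h1 : π ⁅u, z⁆ ∈ F := by
    rw [map_commutatorElement, commutatorElement_def]
    exact mul_mem ((inferInstance : F.Normal).conj_mem _ hzF _) (inv_mem hzF)
  have h2 : π ⁅u, z⁆ ∈ U.map π := by
    refine ⟨_, ?_, rfl⟩
    rw [show ⁅u, z⁆ = u * (z * u⁻¹ * z⁻¹) by simp [commutatorElement_def, mul_assoc]]
    exact mul_mem hu (conj_mem_of_mem_normalizer hzU (inv_mem hu))
  have h3 : F ⊓ U.map π = ⊥ := Thompson.inf_eq_bot_of_isPGroup_of_coprime Thompson.isPGroup_pCore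
    (hU.coprime_dvd_left (card_map_dvd _ _))
  exact (QuotientGroup.eq_one_iff _).mp (mem_bot.mp (h3.le (mem_inf.mpr ⟨h1, h2⟩)))

theorem card_sup_dvd_mul_of_le_normalizer {U V : Subgroup G} (h : U ≤ normalizer (V : Set G)) :
    Nat.card (U ⊔ V : Subgroup G) ∣ Nat.card U * Nat.card V := by
  have h1 := Subgroup.relIndex_mul_relIndex ⊥ V (U ⊔ V) bot_le le_sup_right
  rw [Subgroup.relIndex_bot_left, Subgroup.relIndex_bot_left,
    Coprime.relIndex_sup_of_le_normalizer h] at h1
  rw [← h1, mul_comm (Nat.card U)]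
  exact mul_dvd_mul_left _ (Subgroup.relIndex_dvd_card V U)

/-- `O_{q'}` of a subgroup, as a subgroup of the whole group. -/
def primeCoreOf (q : ℕ) (H : Subgroup G) : Subgroup G := (pPrimeCore q H).map H.subtype

theorem card_primeCoreOf_coprime (q : ℕ) (H : Subgroup G) :
    (Nat.card (primeCoreOf q H)).Coprime q :=
  Thompson.card_pPrimeCore_coprime.coprime_dvd_left (card_map_dvd _ _)

variable {p : ℕ} [hp : Fact p.Prime] {A : Subgroup G} {θ : G → Subgroup G}

namespace IsMinBad

variable (hm : IsMinBad p A θ) {q : ℕ} [hq : Fact q.Prime]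
include hm

/-- A subgroup centralizing a maximal `q`-member takes invariant `q'`-subgroups of `θ e` into
`O_{q'}(θ e)`. -/
theorem commutator_le_primeCoreOf {Q Z : Subgroup G} (hQ : IsMaxQ p q A θ Q)
    (hZ : Z ≤ signalizerInf A θ) (hZQ : Z ≤ centralizer (Q : Set G)) {e : G} (he : e ∈ A)
    (he1 : e ≠ 1) {U : Subgroup G} (hUe : U ≤ θ e) (hU : (Nat.card U).Coprime q)
    (hZU : Z ≤ normalizer (U : Set G)) : ⁅U, Z⁆ ≤ primeCoreOf q (θ e) := by
  haveI := hm.func.2 e he he1
  obtain ⟨c, hc, S, hS⟩ := exists_conj_inf_sylow hm.elem hm.rank hm.func hQ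
    (theta_mem_family hm.func he he1)
  have hcθ : c ∈ θ e := signalizerInf_le he he1 hc
  refine commutator_le.mpr fun u hu z hz => ?_
  have hzθ : z ∈ θ e := signalizerInf_le he he1 (hZ hz)
  refine ⟨⁅(⟨u, hUe hu⟩ : θ e), ⟨z, hzθ⟩⁆, ?_, by simp [commutatorElement_def]⟩
  refine commutator_mem_pPrimeCore ((⟨c, hcθ⟩ : θ e)⁻¹ • S) (mem_centralizer_iff.mpr fun y hy => ?_)
    (U := U.subgroupOf (θ e))
    (by rwa [Nat.card_congr (subgroupOfEquivOfLe hUe).toEquiv]) ?_ (mem_subgroupOf.mpr hu)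
  · have hyQ : (y : G) ∈ Q := by
      have hy' : (y : G) ∈ ((((⟨c, hcθ⟩ : θ e)⁻¹ • S : Sylow q (θ e))) : Subgroup (θ e)).map
          (θ e).subtype := ⟨y, hy, rfl⟩
      rw [coe_sylow_smul_map, hS] at hy'
      obtain ⟨x, hx, hxy⟩ := hy'
      obtain ⟨x', hx', rfl⟩ := (mem_inf.mp hx).1
      rw [← hxy]
      simpa [mul_assoc] using hx'
    exact Subtype.ext (mem_centralizer_iff.mp (hZQ hz) y hyQ)
  · refine zpowers_le.mp (Coprime.le_normalizer_of_conj_mem fun g hg v hv => mem_subgroupOf.mpr ?_)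
    have hg' : (g : G) ∈ Z := by
      obtain ⟨i, rfl⟩ := mem_zpowers_iff.mp hg
      simpa using zpow_mem hz i
    simpa using conj_mem_of_mem_normalizer (hZU hg') (mem_subgroupOf.mp hv)

/-- The largest invariant `q'`-subgroup of `θ d`. -/
theorem exists_largest_primeTo {d : G} (hd : d ∈ A) (hd1 : d ≠ 1) :
    ∃ S : Subgroup G, (S ≤ θ d ∧ (Nat.card S).Coprime q ∧ A ≤ normalizer (S : Set G) ∧
      signalizerInf A θ ≤ normalizer (S : Set G)) ∧
      ∀ U ≤ θ d, (Nat.card U).Coprime q → A ≤ normalizer (U : Set G) →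
        signalizerInf A θ ≤ normalizer (U : Set G) → U ≤ S := by
  have hθd := theta_mem_family hm.func hd hd1
  set π : Set ℕ := {r | r ≠ q} with hπ
  have hpi : ∀ {U : Subgroup G}, (Nat.card U).Coprime q →
      ∀ r : ℕ, r.Prime → r ∣ Nat.card U → r ∈ π := fun hU r hr hrd hrq =>
    hr.one_lt.ne' (Nat.eq_one_of_dvd_coprimes hU hrd (hrq ▸ dvd_rfl))
  let P : Subgroup G → Prop := fun S => S ≤ θ d ∧ (Nat.card S).Coprime q ∧
    A ≤ normalizer (S : Set G) ∧ signalizerInf A θ ≤ normalizer (S : Set G)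
  have hbot : P ⊥ := ⟨bot_le, by rw [card_bot]; exact Nat.coprime_one_left q,
    by rw [Subgroup.normalizer_eq_top_iff.mpr inferInstance]; exact le_top,
    by rw [Subgroup.normalizer_eq_top_iff.mpr inferInstance]; exact le_top⟩
  obtain ⟨S, -, hS⟩ := Set.Finite.exists_le_maximal (Set.toFinite {S | P S}) hbot
  obtain ⟨hSle, hSq, hAS, hS0⟩ := hS.1
  refine ⟨S, hS.1, fun U hU hUq hAU hU0 => ?_⟩
  obtain ⟨H0, hH0, hAH0, hSH0⟩ := Coprime.exists_invariant_hall_ge (Nat.card (θ d)) G A (θ d) S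
    (member_normalizer hθd) (hm.coprime hθd) hθd.1 rfl hSle hAS π (hpi hSq)
  obtain ⟨H1, hH1, hAH1, hUH1⟩ := Coprime.exists_invariant_hall_ge (Nat.card (θ d)) G A (θ d) U
    (member_normalizer hθd) (hm.coprime hθd) hθd.1 rfl hU hAU π (hpi hUq)
  obtain ⟨c, hc, hce⟩ := Coprime.exists_invariant_hall_conj A (θ d) (member_normalizer hθd)
    (hm.coprime hθd) hθd.1 hH1 hAH1 hH0 hAH0
  have hc0 : c ∈ signalizerInf A θ := inf_centralizer_le_signalizerInf hθd le_rfl hc
  have hUH0 : U ≤ H0 := by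
    rw [← hce, ← map_conj_eq_self (hU0 hc0)]
    exact map_mono hUH1
  have hH0q : (Nat.card H0).Coprime q :=
    (hq.out.coprime_iff_not_dvd.mpr fun h => hH0.2.1 q hq.out h rfl).symm
  have hSU : P (S ⊔ U) := ⟨sup_le hSle hU, hH0q.coprime_dvd_left (card_dvd_of_le (sup_le hSH0 hUH0)),
    Coprime.le_normalizer_sup hAS hAU, Coprime.le_normalizer_sup hS0 hU0⟩
  exact le_sup_right.trans (hS.2 hSU le_sup_left)

omit hq in
/-- A member without `q`-elements in any piece is a `q'`-group. -/
theorem member_coprime [Fact q.Prime] {U : Subgroup G} (hU : U ∈ signalizerFamily p A θ)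
    (h : ∀ a ∈ A, a ≠ 1 → (Nat.card (U ⊓ centralizer ({a} : Set G) : Subgroup G)).Coprime q) :
    (Nat.card U).Coprime q := by
  refine ((Fact.out : q.Prime).coprime_iff_not_dvd.mpr fun hdvd => ?_).symm
  obtain ⟨S, hS⟩ := Coprime.exists_invariant_sylow A U (member_normalizer hU) (hm.coprime hU)
    (Or.inl (isSolvable_elementary hm.elem)) q
  set P := (S : Subgroup U).map U.subtype with hP
  have hPU : P ∈ signalizerFamily p A θ := family_of_le' hU (map_subtype_le _) hS
  have hPne : P ≠ ⊥ := by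
    rw [hP, Ne, map_eq_bot_iff_of_injective _ U.subtype_injective]
    exact S.ne_bot_of_dvd_card hdvd
  refine hPne (le_bot_iff.mp (hm.member_le hPU fun a ha ha1 => ?_))
  rw [← Thompson.inf_eq_bot_of_isPGroup_of_coprime
    ((S.isPGroup'.map U.subtype).to_le inf_le_left : IsPGroup q (P ⊓ centralizer ({a} : Set G) : Subgroup G))
    (h a ha ha1)]
  exact le_inf le_rfl (inf_le_inf_right _ (map_subtype_le _))

/-- The `O_{q'}(θ d)` lie in a member of order prime to `q`, normalized by `θ(A)`. -/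
theorem exists_primeTo_member (hne : ∃ d ∈ A, d ≠ 1 ∧ q ∣ Nat.card (θ d)) :
    ∃ W ∈ signalizerFamily p A θ, (Nat.card W).Coprime q ∧
      signalizerInf A θ ≤ normalizer (W : Set G) ∧
      ∀ d ∈ A, d ≠ 1 → primeCoreOf q (θ d) ≤ W := by
  classical
  choose! σ hσ hσmax using fun d (hd : d ∈ A ∧ d ≠ 1) => hm.exists_largest_primeTo (q := q) hd.1 hd.2
  obtain ⟨W, hW, hσW, hWσ⟩ := hm.exists_completion σ (fun d hd hd1 => (hσ d ⟨hd, hd1⟩).1)
    (fun d hd hd1 => (hσ d ⟨hd, hd1⟩).2.2.1) (fun d hd hd1 e he he1 => by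
      obtain ⟨h1, h2, h3, h4⟩ := hσ d ⟨hd, hd1⟩
      refine hσmax e ⟨he, he1⟩ _ ((inf_le_inf_right _ h1).trans (hm.func.1.2.2.2 d hd hd1 e he he1))
        (h2.coprime_dvd_left (card_dvd_of_le inf_le_left))
        (Coprime.le_normalizer_inf h3 ((le_centralizer_singleton hm.elem he).trans le_normalizer))
        (Coprime.le_normalizer_inf h4 (((signalizerInf_le_centralizer hm.func.1 le_rfl).trans
          (centralizer_le (Set.singleton_subset_iff.mpr he))).trans le_normalizer)))
    (by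
      obtain ⟨d, hd, hd1, hqd⟩ := hne
      refine ⟨d, hd, hd1, fun h => hq.out.one_lt.ne' (Nat.eq_one_of_dvd_coprimes
        (h ▸ (hσ d ⟨hd, hd1⟩).2.1) hqd dvd_rfl)⟩)
  refine ⟨W, hW, hm.member_coprime hW fun a ha ha1 =>
    (hσ a ⟨ha, ha1⟩).2.1.coprime_dvd_left (card_dvd_of_le (hWσ a ha ha1)), ?_, fun d hd hd1 => ?_⟩
  · have hWeq : W = ⨆ a : {a : G // a ∈ A ∧ a ≠ 1}, σ a := le_antisymm
      (hm.member_le hW fun a ha ha1 => (hWσ a ha ha1).trans
        (le_iSup (fun a : {a : G // a ∈ A ∧ a ≠ 1} => σ a) ⟨a, ha, ha1⟩))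
      (iSup_le fun a => hσW a a.2.1 a.2.2)
    rw [hWeq]
    exact le_normalizer_iSup fun a => (hσ a a.2).2.2.2
  · refine le_trans (hσmax d ⟨hd, hd1⟩ _ (map_subtype_le _) (card_primeCoreOf_coprime q _)
      ((member_normalizer (theta_mem_family hm.func hd hd1)).trans
        (Coprime.normalizer_le_normalizer_map _ _)) ?_) (hσW d hd hd1)
    exact ((signalizerInf_le hd hd1).trans le_normalizer).trans
      (Coprime.normalizer_le_normalizer_map _ _)

omit hq in
/-- The centre of a maximal `2`-member moves some `K_t` with `t` odd. -/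
theorem exists_center_moves_bigK {Q : Subgroup G} (hQ : IsMaxQ p 2 A θ Q) :
    ∃ t : ℕ, t.Prime ∧ t ≠ 2 ∧ ¬ centerOf Q ≤ centralizer (bigK p t A θ : Set G) := by
  haveI := Fact.mk Nat.prime_two
  haveI := hm.elem.1
  by_contra hcon
  push Not at hcon
  set Z := centerOf Q with hZ
  have hZ0 : Z ≤ signalizerInf A θ := hm.centerOf_le_signalizerInf hQ
  have hQne : Q ≠ ⊥ := by
    intro h
    obtain ⟨b, hb, hb1, -⟩ := hm.exists_ne_bot
    obtain ⟨M, -, hM⟩ := hm.exists_maxAbove_ge (theta_mem_family hm.func hb hb1) (le_refl (θ b))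
    have hRb : pCoreOf 2 M = ⊥ := le_bot_iff.mp (h ▸ hm.le_isMaxQ
      (family_of_le' hM.1 pCoreOf_le ((member_normalizer hM.1).trans normalizer_le_normalizer_pCoreOf))
      isPGroup_pCoreOf ((hm.signalizerInf_le_of_maxAbove hb hb1 hM).trans le_normalizer_pCoreOf) hQ)
    obtain ⟨r, hr, hne⟩ := hm.exists_wComm_ne_bot hb hb1 hM
    haveI := Fact.mk hr
    rcases eq_or_ne r 2 with rfl | hr2
    · exact hne (le_bot_iff.mp ((hm.wComm_mem hb hM.1).1.trans hRb.le))
    · obtain ⟨c, hc, hc1, hbad⟩ := hm.exists_not_isGood (q := r) fun h0 =>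
        hne (le_bot_iff.mp ((hm.wComm_le_bigK hb hb1 (fun h => absurd h hr2) hM.1 hM.2.1).trans h0.le))
      obtain ⟨M', -, hM'⟩ := hm.exists_maxAbove_ge (theta_mem_family hm.func hc hc1) (le_refl (θ c))
      obtain ⟨s, hs, hne'⟩ := hm.exists_wComm_ne_bot hc hc1 hM'
      rcases eq_or_ne s 2 with rfl | hs2
      · refine hne' (le_bot_iff.mp ((hm.wComm_mem hc hM'.1).1.trans ?_))
        exact h ▸ hm.le_isMaxQ (family_of_le' hM'.1 pCoreOf_le ((member_normalizer hM'.1).trans
          normalizer_le_normalizer_pCoreOf)) isPGroup_pCoreOf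
          ((hm.signalizerInf_le_of_maxAbove hc hc1 hM').trans le_normalizer_pCoreOf) hQ
      · exact hne' (hm.wComm_eq_bot_of_not_isGood hc hc1 hbad hM' hs hs2)
  obtain ⟨z, hz, hz1⟩ := (bot_or_exists_ne_one Z).resolve_left (centerOf_ne_bot hQ.1.2 hQne)
  have hZp : IsPGroup 2 Z := hQ.1.2.to_le inf_le_left
  obtain ⟨k, hk⟩ := hZp ⟨z, hz⟩
  have hk' : z ^ 2 ^ k = 1 := congrArg Subtype.val hk
  obtain ⟨a₀, ha₀, ha₀1, -⟩ := hm.exists_ne_bot
  have h2θ : ∃ d ∈ A, d ≠ 1 ∧ 2 ∣ Nat.card (θ d) := ⟨a₀, ha₀, ha₀1, by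
    obtain ⟨n, hn⟩ := IsPGroup.iff_card.mp hZp
    refine dvd_trans ?_ (card_dvd_of_le (hZ0.trans (signalizerInf_le ha₀ ha₀1)))
    rw [hn]
    refine dvd_pow_self 2 fun h0 => hz1 ?_
    have := eq_bot_of_card_le Z (by rw [hn, h0, pow_zero])
    rw [this] at hz
    exact mem_bot.mp hz⟩
  obtain ⟨W, hW, hW2, hW0, hWd⟩ := hm.exists_primeTo_member (q := 2) h2θ
  have hzW : zpowers z ≤ normalizer (W : Set G) := zpowers_le.mpr (hW0 (hZ0 hz))
  have hzcop : ∀ {U : Subgroup G}, U ≤ W → (Nat.card (zpowers z)).Coprime (Nat.card U) := fun hU => by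
    rw [Nat.card_zpowers]
    exact ((hW2.symm.pow_left k).coprime_dvd_left (orderOf_dvd_of_pow_eq_one hk')).coprime_dvd_right
      (card_dvd_of_le hU)
  have hzA : A ≤ centralizer ({z} : Set G) := fun a ha => mem_centralizer_singleton_iff.mpr
    (mem_centralizer_iff.mp (signalizerInf_le_centralizer hm.func.1 le_rfl (hZ0 hz)) a ha)
  have hWc : W ≤ centralizer ({z} : Set G) := by
    refine le_centralizer_of_centralizes_cores hW.1 (hzW (mem_zpowers z)) (hzcop le_rfl) fun r hr => ?_
    haveI := Fact.mk hr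
    set T := pCoreOf r W with hT
    rcases eq_or_ne r 2 with rfl | hr2
    · exact (le_inf le_rfl pCoreOf_le).trans
        ((Thompson.inf_eq_bot_of_isPGroup_of_coprime isPGroup_pCoreOf hW2).le.trans bot_le)
    have hAT : A ≤ normalizer (T : Set G) :=
      (member_normalizer hW).trans normalizer_le_normalizer_pCoreOf
    have hTfam : T ∈ signalizerFamily p A θ := family_of_le' hW pCoreOf_le hAT
    have hzT : zpowers z ≤ normalizer (T : Set G) := hzW.trans normalizer_le_normalizer_pCoreOf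
    set A' := A ⊔ zpowers z with hA'
    haveI : IsMulCommutative A' := ⟨⟨fun x y => Subtype.ext (by
      have hle : A' ≤ centralizer (A' : Set G) := by
        have h1 : A ≤ centralizer (A' : Set G) := by
          rw [le_centralizer_iff]
          exact sup_le (le_centralizer_self_of_elementary hm.elem)
            (zpowers_le.mpr (signalizerInf_le_centralizer hm.func.1 le_rfl (hZ0 hz)))
        have h2 : zpowers z ≤ centralizer (A' : Set G) := by
          rw [le_centralizer_iff, centralizer_zpowers]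
          exact sup_le hzA (zpowers_le.mpr (mem_centralizer_singleton_iff.mpr rfl))
        exact sup_le h1 h2
      exact (mem_centralizer_iff.mp (hle x.2) y y.2).symm)⟩⟩
    have hcard : Nat.card A' ∣ Nat.card A * Nat.card (zpowers z) :=
      card_sup_dvd_mul_of_le_normalizer (hzA.trans ((centralizer_zpowers z).ge.trans
        (centralizer_le_normalizer _)))
    have hTK : ⁅T, zpowers z⁆ ≤ bigK p r A θ := by
      refine commutator_le_of_pieces A' (mem_sup_right (mem_zpowers z))
        (fun B : {B : Subgroup G // IsHyp p A B} => centralizer ((B : Subgroup G) : Set G))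
        (fun B => ?_) T _ (sup_le hAT hzT) ?_ hTfam.1 (fun D hD hAD H hH => ?_) fun B => ?_
      · refine sup_le (le_normalizer_centralizer_of_le hm.elem B.2.1) (zpowers_le.mpr ?_)
        exact le_normalizer (centralizer_le B.2.1 (signalizerInf_le_centralizer hm.func.1 le_rfl (hZ0 hz)))
      · exact (Nat.Coprime.mul_left (hm.coprime hTfam) (hzcop pCoreOf_le)).coprime_dvd_left hcard
      · exact le_of_forall_hyp hm.elem (le_sup_left.trans hAD)
          ((family_coprime hTfam).coprime_dvd_right (card_dvd_of_le hD)) fun B hB => hH ⟨B, hB⟩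
      · obtain ⟨B, hB⟩ := B
        refine le_trans (le_iInf fun d => ?_)
          (le_iSup (fun B : {B : Subgroup G // IsHyp p A B} => delta r θ (B : Subgroup G)) ⟨B, hB⟩)
        obtain ⟨d, hd, hd1⟩ := d
        have hdA := hB.1 hd
        set O := primeCoreOf 2 (θ d) with hOd
        set U := T ⊓ centralizer (B : Set G) with hU
        have hUθ : U ≤ θ d :=
          (inf_centralizer_le_signalizerInf hTfam hB.1).trans (signalizerInf_le hd hd1)
        have hZn : zpowers z ≤ normalizer (U : Set G) := Coprime.le_normalizer_inf hzT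
          ((zpowers_le.mpr (centralizer_le hB.1 (signalizerInf_le_centralizer hm.func.1 le_rfl
            (hZ0 hz)))).trans le_normalizer)
        have h1 : ⁅U, zpowers z⁆ ≤ O := hm.commutator_le_primeCoreOf hQ
          ((zpowers_le.mpr hz).trans hZ0) ((zpowers_le.mpr hz).trans inf_le_right) hdA hd1 hUθ
          (hW2.coprime_dvd_left (card_dvd_of_le (inf_le_left.trans pCoreOf_le))) hZn
        have h2 : ⁅U, zpowers z⁆ ≤ T :=
          (Coprime.commutator_le_of_le_normalizer hZn).trans inf_le_left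
        refine (le_inf h2 h1).trans ((le_pCoreOf inf_le_right ?_
          (isPGroup_pCoreOf.to_le inf_le_left)).trans (le_pCoreOf
            (pCoreOf_le.trans (map_subtype_le _)) ?_ isPGroup_pCoreOf))
        · exact Coprime.le_normalizer_inf ((hWd d hdA hd1).trans le_normalizer_pCoreOf) le_normalizer
        · exact (le_normalizer.trans (Coprime.normalizer_le_normalizer_map _ _)).trans
            normalizer_le_normalizer_pCoreOf
    have h0 : ⁅⁅T, zpowers z⁆, zpowers z⁆ = ⊥ := by
      refine le_bot_iff.mp ((commutator_mono hTK le_rfl).trans (le_of_eq ?_))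
      rw [commutator_eq_bot_iff_le_centralizer, centralizer_zpowers]
      intro x hx
      exact mem_centralizer_singleton_iff.mpr (mem_centralizer_iff.mp (hcon r hr hr2 hz) x hx)
    rw [Coprime.commutator_commutator_eq (zpowers z) T hzT (hzcop pCoreOf_le) (Or.inr hTfam.1),
      commutator_eq_bot_iff_le_centralizer, centralizer_zpowers] at h0
    exact h0
  have hzd : z ∈ delta 2 θ A := by
    refine mem_iInf.mpr fun d => ?_
    obtain ⟨d, hd, hd1⟩ := d
    have hzθ : z ∈ θ d := signalizerInf_le hd hd1 (hZ0 hz)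
    haveI := hm.func.2 d hd hd1
    have hcent : ∀ r : ℕ, r.Prime → zpowers z ≤ centralizer (pCoreOf r (θ d) : Set G) := by
      intro r hr
      rcases eq_or_ne r 2 with rfl | hr2
      · exact (zpowers_le.mpr (mem_inf.mp hz).2).trans (centralizer_le (hm.core_le_isMaxQ hQ hd hd1))
      haveI := Fact.mk hr
      rw [zpowers_le_centralizer_iff]
      refine le_trans ?_ ((hWd d hd hd1).trans hWc)
      refine map_mono (Thompson.le_pPrimeCore inferInstance ?_)
      obtain ⟨n, hn⟩ := IsPGroup.iff_card.mp (Thompson.isPGroup_pCore (p := r) (G := θ d))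
      rw [hn]
      exact Nat.Coprime.pow_left n ((Nat.coprime_primes hr Nat.prime_two).mpr hr2)
    obtain ⟨y, hy, hyz⟩ := le_fitting_of_centralizes (hm.func.2 d hd hd1) (zpowers_le.mpr hzθ) hcent
      (mem_zpowers z)
    refine ⟨y, mem_pCore_of_mem_fitting hy (k := k) (Subtype.ext ?_), hyz⟩
    rw [SubgroupClass.coe_pow, show (y : G) = z from hyz, hk']
    rfl
  have hA : IsHyp p A A := ⟨le_rfl, Nat.le_mul_of_pos_left _ hp.out.pos⟩
  have := (le_iSup (fun B : {B : Subgroup G // IsHyp p A B} => delta 2 θ (B : Subgroup G)) ⟨A, hA⟩) hzd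
  exact hz1 (mem_bot.mp ((hm.bigK_two_eq_bot).le this))

end IsMinBad

end Cfsg.Agent.SFT49
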