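import Cfsg.Agent.SFT49.Odd
import Cfsg.Agent.SFT49.ZMove
import Cfsg.Agent.SFT49.Support

/-!
No minimal counterexample: for a central element of a maximal `2`-member the member above its
centralizers and the odd cores has the groups `K_r` as its cores, and each of them is normalized by
all values.
-/

set_option autoImplicit false
set_option linter.style.haveILetI false
set_option maxHeartbeats 400000

universe u

namespace Cfsg.Agent.SFT49

open Subgroup Coprime Signal38 SFT45
open scoped commutatorElement IsMulCommutative Pointwise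

variable {G : Type u} [Group G]

/-- What normalizes `K ≤ C(b)` gives commutators with `b` centralizing `K`. -/
theorem commutator_zpowers_le_centralizer {X K : Subgroup G} {b : G}
    (hXK : X ≤ normalizer (K : Set G)) (hKb : K ≤ centralizer ({b} : Set G)) :
    ⁅X, zpowers b⁆ ≤ centralizer (K : Set G) := by
  have hK : ⁅K, zpowers b⁆ = ⊥ := by
    rw [commutator_eq_bot_iff_le_centralizer, centralizer_zpowers]
    exact hKb
  rw [← commutator_eq_bot_iff_le_centralizer]
  refine commutator_commutator_eq_bot_of_rotate ?_ ?_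
  · rw [show ⁅zpowers b, K⁆ = ⊥ by rw [commutator_comm]; exact hK, commutator_bot_left]
  · rw [← le_bot_iff, ← hK]
    exact commutator_mono (Coprime.commutator_le_of_le_normalizer hXK) le_rfl

variable [Finite G] {p : ℕ} [hp : Fact p.Prime] {A : Subgroup G} {θ : G → Subgroup G}

theorem signalizerInf_mono {B : Subgroup G} (hB : B ≤ A) :
    signalizerInf A θ ≤ signalizerInf B θ := fun _ hx =>
  mem_signalizerInf.mpr fun b hb hb1 => mem_signalizerInf.mp hx b (hB hb) hb1

theorem hyp_sup_zpowers_eq (hA : IsElementaryAbelian p A) {E : Subgroup G} (hE : IsHyp p A E)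
    {b : G} (hb : b ∈ A) (hbE : b ∉ E) : E ⊔ zpowers b = A := by
  have hlt : E < E ⊔ zpowers b :=
    lt_of_le_of_ne le_sup_left fun h => hbE (h.ge (mem_sup_right (mem_zpowers b)))
  exact eq_of_le_of_card_ge (sup_le hE.1 (zpowers_le.mpr hb))
    (hE.2.trans (prime_mul_card_le hA hlt (sup_le hE.1 (zpowers_le.mpr hb))))

namespace IsMinBad

variable (hm : IsMinBad p A θ)
include hm

theorem oddOf_mem_family {d : G} (hd : d ∈ A) (hd1 : d ≠ 1) :
    oddOf (θ d) ∈ signalizerFamily p A θ :=
  family_of_le' (theta_mem_family hm.func hd hd1) oddOf_le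
    ((member_normalizer (theta_mem_family hm.func hd hd1)).trans normalizer_le_normalizer_oddOf)

theorem isCentralTwo_of_mem {Q : Subgroup G} (hQ : IsMaxQ p 2 A θ Q) {z : G}
    (hz : z ∈ centerOf Q) (hz1 : z ≠ 1) : IsCentralTwo p A θ Q z :=
  ⟨hQ, hz.1, fun x hx => mem_centralizer_singleton_iff.mpr (mem_centralizer_iff.mp hz.2 x hx),
    hm.centerOf_le_signalizerInf hQ hz, hz1⟩

/-- A central element of a maximal `2`-member moves some `O(θ d)`. -/
theorem false_of_centralizes_oddOf {Q : Subgroup G} {z : G} (hz : IsCentralTwo p A θ Q z)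
    (h : ∀ d ∈ A, d ≠ 1 → oddOf (θ d) ≤ centralizer ({z} : Set G)) : False := by
  haveI := Fact.mk Nat.prime_two
  refine hz.ne_one (mem_bot.mp (hm.bigK_two_eq_bot.le ?_))
  refine mem_iSup_of_mem (⟨A, le_rfl, Nat.le_mul_of_pos_left _ hp.out.pos⟩ :
    {B : Subgroup G // IsHyp p A B}) (mem_iInf.mpr fun ⟨d, hd, hd1⟩ => ?_)
  obtain ⟨k, hk⟩ := hz.maxQ.1.2 ⟨z, hz.mem⟩
  obtain ⟨y, hy, hyz⟩ := le_fitting_of_centralizes (hm.func.2 d hd hd1)
    (zpowers_le.mpr (signalizerInf_le hd hd1 hz.inf)) (fun r hr => by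
      haveI := Fact.mk hr
      rw [zpowers_le_centralizer_iff]
      rcases eq_or_ne r 2 with rfl | hr2
      · exact (hm.core_le_isMaxQ hz.maxQ hd hd1).trans hz.comm
      · exact (pCoreOf_le_oddOf hr2).trans (h d hd hd1)) (mem_zpowers z)
  refine ⟨y, mem_pCore_of_mem_fitting hy (k := k) (Subtype.ext ?_), hyz⟩
  rw [SubgroupClass.coe_pow, show (y : G) = z from hyz]
  exact congrArg Subtype.val hk

/-- The member completing the `O(θ d) C_{θ d}(z)`. -/
theorem exists_zMember {Q : Subgroup G} {z : G} (hz : IsCentralTwo p A θ Q z) :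
    ∃ L ∈ signalizerFamily p A θ, Q ≤ L ∧ ∀ U ∈ signalizerFamily p A θ, ¬ 2 ∣ Nat.card U →
      z ∈ normalizer (U : Set G) → U ≤ L := by
  haveI := Fact.mk Nat.prime_two
  haveI := hm.elem.1
  obtain ⟨k, hk⟩ := hz.maxQ.1.2 ⟨z, hz.mem⟩
  have hk' : z ^ 2 ^ k = 1 := congrArg Subtype.val hk
  have hzA : z ∈ centralizer (A : Set G) := signalizerInf_le_centralizer hm.func.1 le_rfl hz.inf
  have hzC : ∀ {e : G}, e ∈ A → z ∈ centralizer ({e} : Set G) := fun he =>
    centralizer_le (Set.singleton_subset_iff.mpr he) hzA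
  have hzcop : ∀ {D : Subgroup G}, ¬ 2 ∣ Nat.card D →
      (Nat.card (zpowers z)).Coprime (Nat.card D) := fun hD => by
    rw [Nat.card_zpowers]
    exact ((Nat.prime_two.coprime_iff_not_dvd.mpr hD).pow_left k).coprime_dvd_left
      (orderOf_dvd_of_pow_eq_one hk')
  have hodd : ∀ {d : G}, ¬ 2 ∣ Nat.card (oddOf (θ d)) := not_two_dvd_oddOf
  let σ : G → Subgroup G := fun d => oddOf (θ d) ⊔ (θ d ⊓ centralizer ({z} : Set G))
  have hdec : ∀ e ∈ A, e ≠ 1 → ∀ D : Subgroup G, D ≤ θ e → ¬ 2 ∣ Nat.card D →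
      z ∈ normalizer (D : Set G) → D ≤ σ e := by
    intro e he he1 D hD hD2 hzD
    rw [← Coprime.commutator_sup_centralizer (zpowers z) D (zpowers_le.mpr hzD) (hzcop hD2)
      (Or.inl (Group.isSolvable_of_comm fun x y => mul_comm' x y))]
    refine sup_le_sup (hm.commutator_le_oddOf_theta hz he he1 hD hD2 hzD) ?_
    rw [centralizer_zpowers]
    exact inf_le_inf_right _ hD
  have hAz : A ≤ centralizer ({z} : Set G) := fun a ha =>
    mem_centralizer_singleton_iff.mpr (mem_centralizer_iff.mp hzA a ha)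
  have hAn : ∀ d ∈ A, d ≠ 1 → A ≤ normalizer ((θ d ⊓ centralizer ({z} : Set G) : Subgroup G) : Set G) :=
    fun d hd hd1 => Coprime.le_normalizer_inf (member_normalizer (theta_mem_family hm.func hd hd1))
      (hAz.trans le_normalizer)
  have hσle : ∀ d ∈ A, d ≠ 1 → σ d ≤ θ d := fun d _ _ => sup_le oddOf_le inf_le_left
  have hbal : ∀ d ∈ A, d ≠ 1 → ∀ e ∈ A, e ≠ 1 → σ d ⊓ centralizer ({e} : Set G) ≤ σ e := by
    intro d hd hd1 e he he1 x hx
    obtain ⟨hxs, hxe⟩ := mem_inf.mp hx
    have hmem : x ∈ (oddOf (θ d) : Set G) * ((θ d ⊓ centralizer ({z} : Set G) : Subgroup G) : Set G) := by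
      rw [← coe_mul_of_right_le_normalizer_left _ _ (inf_le_left.trans le_normalizer_oddOf)]
      exact hxs
    obtain ⟨u, hu, v, hv, rfl⟩ := Set.mem_mul.mp hmem
    have hze : zpowers e ≤ A := zpowers_le.mpr he
    obtain ⟨x', hx', y', hy', heq⟩ := Coprime.exists_mul_fixed (zpowers e) (oddOf (θ d))
      (θ d ⊓ centralizer ({z} : Set G)) (hze.trans (member_normalizer (hm.oddOf_mem_family hd hd1)))
      (hze.trans (hAn d hd hd1))
      (((hm.coprime (theta_mem_family hm.func hd hd1)).coprime_dvd_left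
        (card_dvd_of_le hze)).coprime_dvd_right (card_dvd_of_le (inf_le_left.trans oddOf_le)))
      (Or.inl (Group.isSolvable_of_comm fun x y => mul_comm' x y)) u v hu hv
      (by rw [centralizer_zpowers]; exact hxe)
    rw [centralizer_zpowers] at hx' hy'
    rw [heq]
    refine mul_mem ?_ (mem_sup_right (mem_inf.mpr ⟨hm.func.1.2.2.2 d hd hd1 e he he1
      (mem_inf.mpr ⟨(mem_inf.mp (mem_inf.mp hy').1).1, (mem_inf.mp hy').2⟩),
        (mem_inf.mp (mem_inf.mp hy').1).2⟩))
    exact hdec e he he1 _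
      ((inf_le_inf_right _ oddOf_le).trans (hm.func.1.2.2.2 d hd hd1 e he he1))
      (fun h => hodd (h.trans (card_dvd_of_le inf_le_left)))
      ((Coprime.le_normalizer_inf (A := zpowers z)
        ((zpowers_le.mpr (signalizerInf_le hd hd1 hz.inf)).trans le_normalizer_oddOf)
        ((zpowers_le.mpr (hzC he)).trans le_normalizer)) (mem_zpowers z)) hx'
  have hlt : ∃ d ∈ A, d ≠ 1 ∧ σ d ≠ θ d := by
    by_contra hall
    push Not at hall
    obtain ⟨O, hO, hO2, -, hOmax⟩ := hm.exists_oddMember hz
    set X := ⨆ d : {d : G // d ∈ A ∧ d ≠ 1}, ⁅oddOf (θ (d : G)), zpowers z⁆ with hX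
    have hzn : ∀ d ∈ A, d ≠ 1 → zpowers z ≤ normalizer (oddOf (θ d) : Set G) := fun d hd hd1 =>
      (zpowers_le.mpr (signalizerInf_le hd hd1 hz.inf)).trans le_normalizer_oddOf
    have hAnz : A ≤ normalizer (zpowers z : Set G) := by
      refine le_trans ?_ (centralizer_le_normalizer _)
      rw [centralizer_zpowers]
      exact hAz
    have hXfam : X ∈ signalizerFamily p A θ := by
      refine family_of_le' hO (iSup_le fun d => ?_) (le_normalizer_iSup fun d => ?_)
      · exact (Coprime.commutator_le_of_le_normalizer (hzn _ d.2.1 d.2.2)).trans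
          (hOmax _ (hm.oddOf_mem_family d.2.1 d.2.2) hodd
            ((signalizerInf_le d.2.1 d.2.2).trans le_normalizer_oddOf))
      · exact le_normalizer_commutator (member_normalizer (hm.oddOf_mem_family d.2.1 d.2.2)) hAnz
    have hnorm : ∀ E : Subgroup G, IsHyp p A E → signalizerInf E θ ≤ normalizer (X : Set G) := by
      intro E hE
      have hXE : X = ⨆ e : {e : G // e ∈ E ∧ e ≠ 1}, ⁅oddOf (θ (e : G)), zpowers z⁆ := by
        refine le_antisymm (iSup_le fun d => ?_) (iSup_le fun e =>
          le_iSup (fun d : {d : G // d ∈ A ∧ d ≠ 1} => ⁅oddOf (θ (d : G)), zpowers z⁆)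
            ⟨e, hE.1 e.2.1, e.2.2⟩)
        obtain ⟨d, hd, hd1⟩ := d
        set A' := A ⊔ zpowers z with hA'
        haveI : IsMulCommutative A' := ⟨⟨fun x y => Subtype.ext (by
          have hle : A' ≤ centralizer (A' : Set G) := by
            refine sup_le ?_ ?_
            · rw [le_centralizer_iff]
              exact sup_le (le_centralizer_self_of_elementary hm.elem) (zpowers_le.mpr hzA)
            · rw [le_centralizer_iff, centralizer_zpowers]
              exact sup_le hAz (zpowers_le.mpr (mem_centralizer_singleton_iff.mpr rfl))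
          exact (mem_centralizer_iff.mp (hle x.2) y y.2).symm)⟩⟩
        haveI : IsMulCommutative E :=
          ⟨⟨fun x y => Subtype.ext (comm_of_mem hm.elem (hE.1 x.2) (hE.1 y.2))⟩⟩
        have hKfam := hm.oddOf_mem_family hd hd1
        refine commutator_le_of_pieces A' (mem_sup_right (mem_zpowers z))
          (fun e : {e : G // e ∈ E ∧ e ≠ 1} => centralizer ({(e : G)} : Set G))
          (fun e => sup_le ((le_centralizer_singleton hm.elem (hE.1 e.2.1)).trans le_normalizer)
            (zpowers_le.mpr (le_normalizer (hzC (hE.1 e.2.1))))) (oddOf (θ d)) _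
          (sup_le (member_normalizer hKfam) (hzn d hd hd1))
          ((Nat.Coprime.mul_left (hm.coprime hKfam) (hzcop hodd)).coprime_dvd_left
            (card_sup_dvd_mul_of_le_normalizer hAnz)) hKfam.1 (fun D hD hAD H hH => ?_) fun e => ?_
        · exact Coprime.le_of_centralizer_le E D H (hE.not_isCyclic hm.elem hm.rank)
            ((hE.1.trans le_sup_left).trans hAD)
            (((hm.coprime hKfam).coprime_dvd_left (card_dvd_of_le hE.1)).coprime_dvd_right
              (card_dvd_of_le hD)) fun e he he1 => hH ⟨e, he, he1⟩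
        · obtain ⟨e, he, he1⟩ := e
          set P := oddOf (θ d) ⊓ centralizer ({e} : Set G) with hP
          have hP2 : ¬ 2 ∣ Nat.card P := fun h => hodd (h.trans (card_dvd_of_le inf_le_left))
          have hzP : zpowers z ≤ normalizer (P : Set G) := Coprime.le_normalizer_inf (hzn d hd hd1)
            ((zpowers_le.mpr (hzC (hE.1 he))).trans le_normalizer)
          rw [← Coprime.commutator_commutator_eq (zpowers z) P hzP (hzcop hP2)
            (Or.inl (Group.isSolvable_of_comm fun x y => mul_comm' x y))]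
          exact le_iSup_of_le ⟨e, he, he1⟩ (commutator_mono (hm.commutator_le_oddOf_theta hz
            (hE.1 he) he1 (hKfam.2.2.2 e (hE.1 he) he1) hP2 (hzP (mem_zpowers z))) le_rfl)
      rw [hXE]
      refine le_normalizer_iSup fun e => (signalizerInf_le e.2.1 e.2.2).trans ?_
      refine (hall _ (hE.1 e.2.1) e.2.2).ge.trans (sup_le (le_normalizer_commutator_left _ _) ?_)
      refine le_normalizer_commutator (inf_le_left.trans le_normalizer_oddOf) ?_
      refine inf_le_right.trans (le_trans ?_ (centralizer_le_normalizer _))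
      rw [centralizer_zpowers]
    rcases eq_or_ne X ⊥ with h | h
    · refine hm.false_of_centralizes_oddOf hz fun d hd hd1 => ?_
      rw [← centralizer_zpowers, ← commutator_eq_bot_iff_le_centralizer, ← le_bot_iff, ← h]
      exact le_iSup (fun d : {d : G // d ∈ A ∧ d ≠ 1} => ⁅oddOf (θ (d : G)), zpowers z⁆) ⟨d, hd, hd1⟩
    · exact hm.false_of_normalized hXfam h fun c hc hc1 =>
        hm.theta_le hc hc1 fun E hE _ => hnorm E hE
  obtain ⟨L, hL, hσL, -⟩ := hm.exists_completion σ hσle (fun d hd hd1 => Coprime.le_normalizer_sup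
    (member_normalizer (hm.oddOf_mem_family hd hd1)) (hAn d hd hd1)) hbal hlt
  refine ⟨L, hL, hm.member_le hz.maxQ.1.1 fun a ha ha1 => le_trans ?_ (hσL a ha ha1),
    fun U hU hU2 hzU => hm.member_le hU fun a ha ha1 => le_trans ?_ (hσL a ha ha1)⟩
  · exact (le_inf (hz.maxQ.1.1.2.2.2 a ha ha1) (inf_le_left.trans hz.comm)).trans le_sup_right
  · exact hdec a ha ha1 _ (hU.2.2.2 a ha ha1) (fun h => hU2 (h.trans (card_dvd_of_le inf_le_left)))
      ((Coprime.le_normalizer_inf (A := zpowers z) (zpowers_le.mpr hzU)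
        ((zpowers_le.mpr (hzC ha)).trans le_normalizer)) (mem_zpowers z))

/-- A member with `K_r` as `r`-core for all odd `r`, trivial `2`-core, containing every invariant
odd member normalized by `θ(A)`. -/
theorem exists_top {Q : Subgroup G} (hQ : IsMaxQ p 2 A θ Q) (hQne : Q ≠ ⊥) :
    ∃ T ∈ signalizerFamily p A θ, T ≠ ⊥ ∧ pCoreOf 2 T = ⊥ ∧
      (∀ r : ℕ, r.Prime → r ≠ 2 → pCoreOf r T = bigK p r A θ) ∧
      ∀ U ∈ signalizerFamily p A θ, ¬ 2 ∣ Nat.card U →
        signalizerInf A θ ≤ normalizer (U : Set G) → U ≤ T := by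
  haveI := Fact.mk Nat.prime_two
  obtain ⟨z, hzZ, hz1⟩ := (bot_or_exists_ne_one _).resolve_left (centerOf_ne_bot hQ.1.2 hQne)
  have hz := hm.isCentralTwo_of_mem hQ hzZ hz1
  obtain ⟨O, hO, hO2, hOn, hOmax⟩ := hm.exists_oddMember hz
  obtain ⟨L, hL, hQL, hLmax⟩ := hm.exists_zMember hz
  obtain ⟨T, hLT, hTmax⟩ := Set.Finite.exists_le_maximal (Set.toFinite (signalizerFamily p A θ)) hL
  have hT := hTmax.1
  have hOT : O ≤ T := (hLmax O hO hO2 (hOn hz.inf)).trans hLT
  have hQT : Q ≤ T := hQL.trans hLT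
  have hUT : ∀ U ∈ signalizerFamily p A θ, ¬ 2 ∣ Nat.card U →
      signalizerInf A θ ≤ normalizer (U : Set G) → U ≤ T :=
    fun U hU hU2 hUn => (hOmax U hU hU2 hUn).trans hOT
  have hoddT : ∀ d ∈ A, d ≠ 1 → oddOf (θ d) ≤ O := fun d hd hd1 =>
    hOmax _ (hm.oddOf_mem_family hd hd1) not_two_dvd_oddOf
      ((signalizerInf_le hd hd1).trans le_normalizer_oddOf)
  have hcore : ∀ r : ℕ, pCoreOf r T ∈ signalizerFamily p A θ := fun r => family_of_le' hT pCoreOf_le
    ((member_normalizer hT).trans normalizer_le_normalizer_pCoreOf)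
  refine ⟨T, hT, fun h => hQne (le_bot_iff.mp (hQT.trans h.le)), ?_, fun r hr hr2 => ?_, hUT⟩
  · by_contra hne
    set N := pCoreOf 2 T with hN
    have hQN : Q ≤ normalizer (N : Set G) := hQT.trans le_normalizer_pCoreOf
    have hNQ : N ≤ Q := le_sup_left.trans (hQ.2 ⟨sup_mem_family hm.elem (hcore 2) hQ.1.1 hQN,
      isPGroup_pCoreOf.to_sup_of_normal_left' hQ.1.2 hQN⟩ le_sup_right)
    haveI := hQ.1.2.isNilpotent
    haveI : (N.subgroupOf Q).Normal := (normal_subgroupOf_iff_le_normalizer hNQ).mpr hQN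
    have hNne : N.subgroupOf Q ≠ ⊥ := fun h => hne (by
      rw [← map_subgroupOf_eq_of_le hNQ, h, Subgroup.map_bot])
    obtain ⟨⟨y, hyQ⟩, hy, hy1⟩ :=
      (bot_or_exists_ne_one _).resolve_left (Fitting.inf_center_ne_bot hNne)
    have hyN : y ∈ N := mem_subgroupOf.mp (mem_inf.mp hy).1
    have hy' := hm.isCentralTwo_of_mem hQ (z := y) ⟨hyQ, mem_centralizer_iff.mpr fun x hx =>
      congrArg Subtype.val (mem_center_iff.mp (mem_inf.mp hy).2 ⟨x, hx⟩)⟩
      fun h => hy1 (Subtype.ext h)
    have hNO : N ⊓ O = ⊥ := Thompson.inf_eq_bot_of_isPGroup_of_coprime isPGroup_pCoreOf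
      (Nat.prime_two.coprime_iff_not_dvd.mpr hO2).symm
    refine hm.false_of_centralizes_oddOf hy' fun d hd hd1 o ho => ?_
    have hoO : o ∈ O := hoddT d hd hd1 ho
    refine mem_centralizer_singleton_iff.mpr (commutatorElement_eq_one_iff_mul_comm.mp
      (mem_bot.mp (hNO.le ⟨?_, ?_⟩)))
    · exact mul_mem (conj_mem_of_mem_normalizer (le_normalizer_pCoreOf (hOT hoO)) hyN) (N.inv_mem hyN)
    · rw [show ⁅o, y⁆ = o * (y * o⁻¹ * y⁻¹) by simp [commutatorElement_def, mul_assoc]]
      exact mul_mem hoO (conj_mem_of_mem_normalizer (hOn hy'.inf) (inv_mem hoO))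
  · haveI := Fact.mk hr
    set X := pCoreOf r T with hX
    refine le_antisymm (le_of_forall_hyp hm.elem (member_normalizer (hcore r))
      (family_coprime (hcore r)) fun B hB => ?_) (hm.bigK_le_pCoreOf hT ?_)
    · refine le_trans (le_iInf fun d => ?_)
        (le_iSup (fun B : {B : Subgroup G // IsHyp p A B} => delta r θ (B : Subgroup G)) ⟨B, hB⟩)
      obtain ⟨d, hd, hd1⟩ := d
      have hdA : d ∈ A := hB.1 hd
      refine le_trans (inf_le_inf_left _ (centralizer_le (Set.singleton_subset_iff.mpr hd))) ?_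
      set P := X ⊓ centralizer ({d} : Set G) with hP
      have hPθ : P ≤ θ d := (hcore r).2.2.2 d hdA hd1
      obtain ⟨S, hS⟩ := hm.exists_sylow_inf hQ (theta_mem_family hm.func hdA hd1)
        (signalizerInf_le hdA hd1)
      have hXo : ∀ w ∈ X, ¬ 2 ∣ orderOf w := fun w hw h2 =>
        not_dvd_card_of_isPGroup Nat.prime_two hr2.symm (isPGroup_pCoreOf (q := r) (H := T))
          (h2.trans (by rw [← Subgroup.orderOf_mk w hw]; exact orderOf_dvd_natCard _))
      have hPO : P ≤ oddOf (θ d) := fun x hx => mem_oddOf_of_forall (hm.func.2 d hdA hd1) S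
        (hPθ hx) (hXo x hx.1) fun y hy => hXo _ (by
          rw [hS] at hy
          rw [show ⁅x, y⁆ = x * (y * x⁻¹ * y⁻¹) by simp [commutatorElement_def, mul_assoc]]
          exact mul_mem hx.1
            (conj_mem_of_mem_normalizer (le_normalizer_pCoreOf (hQT hy.1)) (inv_mem hx.1)))
      refine (le_pCoreOf hPO (Coprime.le_normalizer_inf
        (((hoddT d hdA hd1).trans hOT).trans le_normalizer_pCoreOf)
        ((oddOf_le.trans (hm.func.1.1 d hdA hd1)).trans le_normalizer))
        (isPGroup_pCoreOf.to_le inf_le_left)).trans (le_pCoreOf (pCoreOf_le.trans oddOf_le)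
          (le_normalizer_oddOf.trans normalizer_le_normalizer_pCoreOf) isPGroup_pCoreOf)
    · refine hUT _ hm.bigK_mem_family.1
        (not_dvd_card_of_isPGroup Nat.prime_two hr2.symm hm.bigK_mem_family.2)
        (le_normalizer_iSup fun B => ?_)
      exact (signalizerInf_mono B.2.1).trans hm.signalizerInf_le_normalizer_delta

/-- No minimal counterexample has a value of even order. -/
theorem false_of_isMaxQ_ne_bot {Q : Subgroup G} (hQ : IsMaxQ p 2 A θ Q) (hQne : Q ≠ ⊥) :
    False := by
  obtain ⟨T, hT, hTne, hT2, hTK, hTU⟩ := hm.exists_top hQ hQne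
  obtain ⟨q, hq, hqT⟩ : ∃ q : ℕ, q.Prime ∧ pCoreOf q T ≠ ⊥ := by
    by_contra h
    push Not at h
    refine hTne (le_bot_iff.mp ((le_fitting_of_centralizes hT.1 le_rfl fun s hs => ?_).trans ?_))
    · rw [h s hs, le_centralizer_iff]
      exact bot_le
    · rw [Fitting.fitting_eq_iSup_pCore, Subgroup.map_iSup]
      exact iSup_le fun r => (h r r.2).le
  haveI := Fact.mk hq
  have hq2 : q ≠ 2 := fun h => hqT (h ▸ hT2)
  have hKT : pCoreOf q T = bigK p q A θ := hTK q hq hq2
  set K := bigK p q A θ with hK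
  have hKne : K ≠ ⊥ := hKT ▸ hqT
  obtain ⟨B, hB, hKB⟩ := hm.bigK_le_centralizer_hyp (q := q) hq2
  have hKfam := (hm.bigK_mem_family (q := q)).1
  have hKd : ∀ d ∈ B, d ≠ 1 → K ≤ pCoreOf q (θ d) := fun d hd hd1 =>
    le_trans (le_inf (le_trans (le_inf le_rfl (hKB.trans (centralizer_le
      (Set.singleton_subset_iff.mpr hd)))) (hKfam.2.2.2 d (hB.1 hd) hd1)) le_rfl)
      (hm.inf_bigK_le_pCoreOf (theta_mem_family hm.func (hB.1 hd) hd1))
  have hKdelta : K = delta q θ B := le_antisymm (le_iInf fun b => hKd b b.2.1 b.2.2)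
    (le_iSup (fun B : {B : Subgroup G // IsHyp p A B} => delta q θ (B : Subgroup G)) ⟨B, hB⟩)
  have hBn : signalizerInf B θ ≤ normalizer (K : Set G) := by
    rw [hKdelta]
    exact hm.signalizerInf_le_normalizer_delta
  have hCU : ∀ d ∈ B, d ≠ 1 → ∀ b ∈ B, pCoreOf q (θ d) ≤ centralizer ({b} : Set G) := by
    intro d hd hd1 b hb
    have hdA := hB.1 hd
    have hbA := hB.1 hb
    set U := pCoreOf q (θ d) with hU
    have hUfam : U ∈ signalizerFamily p A θ := hm.core_mem_family hdA hd1
    have hUT : U ≤ T := hTU U hUfam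
      (not_dvd_card_of_isPGroup Nat.prime_two hq2.symm isPGroup_pCoreOf)
      ((signalizerInf_le hdA hd1).trans le_normalizer_pCoreOf)
    refine le_of_forall_hyp_mem hm.elem hdA (member_normalizer hUfam) (family_coprime hUfam)
      (pCoreOf_le.trans (hm.func.1.1 d hdA hd1)) fun E hE hdE => ?_
    by_cases hbE : b ∈ E
    · exact inf_le_right.trans (centralizer_le (Set.singleton_subset_iff.mpr hbE))
    set V := U ⊓ centralizer (E : Set G) with hV
    have hAV : A ≤ normalizer (V : Set G) := Coprime.le_normalizer_inf (member_normalizer hUfam)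
      (le_normalizer_centralizer_of_le hm.elem hE.1)
    have hzb : zpowers b ≤ A := zpowers_le.mpr hbA
    have hVfam : V ∈ signalizerFamily p A θ := family_of_le' hUfam inf_le_left hAV
    have hYV : ⁅V, zpowers b⁆ ≤ V := Coprime.commutator_le_of_le_normalizer (hzb.trans hAV)
    have hcent : ∀ s : ℕ, s.Prime → ⁅V, zpowers b⁆ ≤ centralizer (pCoreOf s T : Set G) := by
      intro s hs
      have hVs : V ≤ normalizer (pCoreOf s T : Set G) :=
        (inf_le_left.trans hUT).trans le_normalizer_pCoreOf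
      rcases eq_or_ne s q with rfl | hsq
      · exact commutator_zpowers_le_centralizer hVs
          ((hKT.le.trans hKB).trans (centralizer_le (Set.singleton_subset_iff.mpr hb)))
      rcases eq_or_ne s 2 with rfl | hs2
      · rw [hT2, le_centralizer_iff]
        exact bot_le
      haveI := Fact.mk hs
      obtain ⟨Bs, hBs, hKs⟩ := hm.bigK_le_centralizer_hyp (q := s) hs2
      rw [hTK s hs hs2] at hVs ⊢
      by_cases hle : Bs ≤ E
      · have hBsE : Bs = E := by
          by_contra hne
          refine hbE ((eq_of_le_of_card_ge hE.1 ?_).ge hbA)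
          exact hBs.2.trans (prime_mul_card_le hm.elem (lt_of_le_of_ne hle hne) hE.1)
        have hsd : bigK p s A θ ≤ pCoreOf s (θ d) := by
          refine le_trans (le_inf ?_ le_rfl)
            (hm.inf_bigK_le_pCoreOf (theta_mem_family hm.func hdA hd1))
          exact le_trans (le_inf le_rfl (hKs.trans (centralizer_le
            (Set.singleton_subset_iff.mpr (hBsE.ge hdE)))))
            ((hm.bigK_mem_family (q := s)).1.2.2.2 d hdA hd1)
        refine (hYV.trans inf_le_left).trans ((le_centralizer_of_coprime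
          (pCoreOf_le.trans le_normalizer_pCoreOf) (pCoreOf_le.trans le_normalizer_pCoreOf)
          (coprime_of_isPGroup hsq.symm isPGroup_pCoreOf isPGroup_pCoreOf)).trans
          (centralizer_le hsd))
      · obtain ⟨b', hb', hb'E⟩ := SetLike.not_le_iff_exists.mp hle
        have hzb' : zpowers b' ≤ A := zpowers_le.mpr (hBs.1 hb')
        refine le_trans ?_ (commutator_zpowers_le_centralizer hVs
          (hKs.trans (centralizer_le (Set.singleton_subset_iff.mpr hb'))))
        have hbn : b ∈ normalizer ((⁅V, zpowers b'⁆ : Subgroup G) : Set G) := by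
          refine le_normalizer_commutator hAV ?_ hbA
          refine le_trans ?_ (centralizer_le_normalizer _)
          rw [centralizer_zpowers]
          exact le_centralizer_singleton hm.elem (hBs.1 hb')
        refine commutator_zpowers_le hbn fun k hk => ?_
        obtain ⟨x, hx, c, hc, rfl⟩ := Coprime.exists_commutator_mul_centralizer (zpowers b') V
          (hzb'.trans hAV) ((hm.coprime hVfam).coprime_dvd_left (card_dvd_of_le hzb'))
          (Or.inr hVfam.1) k hk
        have hcA : c ∈ centralizer (A : Set G) := by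
          rw [← hyp_sup_zpowers_eq hm.elem hE (hBs.1 hb') hb'E]
          exact (le_centralizer_iff.mpr (sup_le (le_centralizer_iff.mp (inf_le_left.trans inf_le_right))
            (le_centralizer_iff.mp inf_le_right)) :
            V ⊓ centralizer (zpowers b' : Set G) ≤ _) hc
        have hcb : b * c = c * b := mem_centralizer_iff.mp hcA b hbA
        rw [show ⁅x * c, b⁆ = ⁅x, b⁆ by
          calc ⁅x * c, b⁆ = x * (c * b * c⁻¹) * x⁻¹ * b⁻¹ := by
                simp [commutatorElement_def, mul_assoc]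
            _ = _ := by rw [← hcb]; simp [commutatorElement_def, mul_assoc],
          show ⁅x, b⁆ = x * (b * x⁻¹ * b⁻¹) by simp [commutatorElement_def, mul_assoc]]
        exact mul_mem hx (conj_mem_of_mem_normalizer hbn (inv_mem hx))
    have hYK : ⁅V, zpowers b⁆ ≤ K := fun y hy => by
      obtain ⟨y', hy', rfl⟩ :=
        le_fitting_of_centralizes hT.1 (hYV.trans (inf_le_left.trans hUT)) hcent hy
      obtain ⟨k, hk⟩ := (isPGroup_pCoreOf (q := q) (H := θ d)) ⟨_, (mem_inf.mp (hYV hy)).1⟩
      exact hKT.le ⟨y', mem_pCore_of_mem_fitting hy'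
        (k := k) (Subtype.ext (by simpa using congrArg Subtype.val hk)), rfl⟩
    rw [← centralizer_zpowers, ← commutator_eq_bot_iff_le_centralizer, ← le_bot_iff,
      ← Coprime.commutator_commutator_eq (zpowers b) V (hzb.trans hAV)
        ((hm.coprime hVfam).coprime_dvd_left (card_dvd_of_le hzb)) (Or.inr hVfam.1)]
    refine (commutator_mono hYK le_rfl).trans (le_of_eq ?_)
    rw [commutator_eq_bot_iff_le_centralizer, centralizer_zpowers]
    exact hKB.trans (centralizer_le (Set.singleton_subset_iff.mpr hb))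
  have hθn : ∀ d ∈ B, d ≠ 1 → θ d ≤ normalizer (K : Set G) := by
    intro d hd hd1
    refine hm.theta_le (hB.1 hd) hd1 fun E hE hdE => ?_
    by_cases hle : B ≤ E
    · exact le_trans (fun x hx => mem_signalizerInf.mpr fun b hb hb1 =>
        mem_signalizerInf.mp hx b (hle hb) hb1) hBn
    obtain ⟨b, hb, hbE⟩ := SetLike.not_le_iff_exists.mp hle
    have hzb : zpowers b ≤ A := zpowers_le.mpr (hB.1 hb)
    have hS := Signal38.signalizerInf_mem_family hm.func hE.1
      fun h => hd1 (mem_bot.mp (h.le hdE))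
    rw [← Coprime.commutator_sup_centralizer (zpowers b) (signalizerInf E θ)
      (hzb.trans (member_normalizer hS)) ((hm.coprime hS).coprime_dvd_left (card_dvd_of_le hzb))
      (Or.inr hS.1)]
    refine sup_le ?_ ?_
    · refine (commutator_zpowers_le_centralizer
        ((signalizerInf_le hdE hd1).trans le_normalizer_pCoreOf) (hCU d hd hd1 b hb)).trans ?_
      exact (centralizer_le (hKd d hd hd1)).trans (centralizer_le_normalizer _)
    · refine le_trans ?_ ((signalizerInf_mono hB.1).trans hBn)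
      refine le_trans ?_ (inf_centralizer_le_signalizerInf hS le_rfl)
      refine le_inf inf_le_left ?_
      rw [le_centralizer_iff, ← hyp_sup_zpowers_eq hm.elem hE (hB.1 hb) hbE]
      exact sup_le (le_centralizer_iff.mp (inf_le_left.trans
        (signalizerInf_le_centralizer hm.func.1 hE.1))) (le_centralizer_iff.mp inf_le_right)
  refine hm.false_of_normalized hKfam hKne fun c hc hc1 => hm.theta_le hc hc1 fun E hE _ => ?_
  obtain ⟨f, hfE, hfB, hf1⟩ := exists_mem_inf hm.elem hm.rank hE hB
  exact (signalizerInf_le hfE hf1).trans (hθn f hfB hf1)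

end IsMinBad

end Cfsg.Agent.SFT49
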