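import Cfsg.Agent.SFT49.Absorb
import Cfsg.Agent.SFT45.Final

/-!
Elements good for `q`, the normalization of `K_q`, and the solvable signalizer functor theorem for
primes that are not Fermat primes.
-/

set_option autoImplicit false
set_option linter.style.haveILetI false
set_option maxHeartbeats 400000

universe u

namespace Cfsg.Agent.SFT49

open Subgroup Coprime Signal38 SFT45
open scoped commutatorElement IsMulCommutative Pointwise

variable {G : Type u} [Group G] [Finite G]

/-- Some member contains `θ b` and `K_q`. -/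
def IsGood (p q : ℕ) (A : Subgroup G) (θ : G → Subgroup G) (b : G) : Prop :=
  ∃ H ∈ signalizerFamily p A θ, θ b ≤ H ∧ bigK p q A θ ≤ H

variable {p : ℕ} [hp : Fact p.Prime] {A : Subgroup G} {θ : G → Subgroup G}

namespace IsMinBad

variable (hm : IsMinBad p A θ)
include hm

omit hp in
theorem exists_maxAbove_ge {a : G} {U : Subgroup G} (hU : U ∈ signalizerFamily p A θ)
    (haU : θ a ≤ U) : ∃ M, U ≤ M ∧ IsMaxAbove p A θ a M := by
  obtain ⟨M, hUM, hM⟩ := Set.Finite.exists_le_maximal (Set.toFinite (signalizerFamily p A θ)) hU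
  exact ⟨M, hUM, hM.1, haU.trans hUM, fun V hV hle => le_antisymm (hM.2 hV hle) hle⟩

theorem maxAbove_ne_bot {a : G} {M : Subgroup G} (hM : IsMaxAbove p A θ a M) : M ≠ ⊥ := by
  intro h
  obtain ⟨b, hb, hb1, hne⟩ := hm.exists_ne_bot
  exact hne ((hM.2.2 _ (theta_mem_family hm.func hb hb1) (h.le.trans bot_le)).trans h)

theorem exists_wComm_ne_bot {a : G} (ha : a ∈ A) (ha1 : a ≠ 1) {M : Subgroup G}
    (hM : IsMaxAbove p A θ a M) : ∃ r : ℕ, r.Prime ∧ wComm r M a ≠ ⊥ := by
  by_contra h
  push Not at h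
  refine hm.false_of_centralizes ha ha1 hM.1 hM.2.1 hM.2.2 (hm.maxAbove_ne_bot hM) fun r hr => ?_
  rw [← centralizer_zpowers, ← commutator_eq_bot_iff_le_centralizer]
  exact h r hr

theorem wComm_mem {a : G} (ha : a ∈ A) {r : ℕ} {M : Subgroup G}
    (hM : M ∈ signalizerFamily p A θ) :
    wComm r M a ≤ pCoreOf r M ∧ wComm r M a ∈ signalizerFamily p A θ := by
  haveI := hm.elem.1
  have hza : zpowers a ≤ A := zpowers_le.mpr ha
  have hAR : A ≤ normalizer (pCoreOf r M : Set G) :=
    (member_normalizer hM).trans normalizer_le_normalizer_pCoreOf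
  have hAza : A ≤ normalizer (zpowers a : Set G) := by
    refine le_trans ?_ (centralizer_le_normalizer _)
    rw [centralizer_zpowers]
    exact le_centralizer_singleton hm.elem ha
  have hle : wComm r M a ≤ pCoreOf r M := Coprime.commutator_le_of_le_normalizer (hza.trans hAR)
  exact ⟨hle, family_of_le' hM (hle.trans pCoreOf_le) (le_normalizer_commutator hAR hAza)⟩

theorem wComm_le_bigK {a : G} (ha : a ∈ A) (ha1 : a ≠ 1) {r : ℕ} [Fact r.Prime] {M : Subgroup G}
    (hexc : r = 2 → ¬ ∃ m, p = 2 ^ m + 1) (hM : M ∈ signalizerFamily p A θ) (haM : θ a ≤ M) :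
    wComm r M a ≤ bigK p r A θ :=
  hm.commutator_le_bigK hexc (family_of_le' hM pCoreOf_le
    ((member_normalizer hM).trans normalizer_le_normalizer_pCoreOf)) isPGroup_pCoreOf ha ha1
    (haM.trans le_normalizer_pCoreOf)

theorem signalizerInf_le_of_maxAbove {a : G} (ha : a ∈ A) (ha1 : a ≠ 1) {M : Subgroup G}
    (hM : IsMaxAbove p A θ a M) : signalizerInf A θ ≤ M :=
  (signalizerInf_le ha ha1).trans hM.2.1

/-- A maximal member above `θ a` with nontrivial `q`-core contains `K_q`. -/
theorem bigK_le_maxAbove {a : G} (ha : a ∈ A) (ha1 : a ≠ 1) {q : ℕ} [Fact q.Prime] {M : Subgroup G}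
    (hM : IsMaxAbove p A θ a M) (hR : pCoreOf q M ≠ ⊥) : bigK p q A θ ≤ pCoreOf q M :=
  hm.bigK_le_of_maximal hM.1 (hm.signalizerInf_le_of_maxAbove ha ha1 hM) hM.2.2 hR

/-- If `⁅O_s(M), a⁆` is nontrivial and Flavell's lemma applies to `s`, then `a` is good for every
prime. -/
theorem isGood_of_wComm {a : G} (ha : a ∈ A) (ha1 : a ≠ 1) {s : ℕ} [Fact s.Prime]
    (hexc : s = 2 → ¬ ∃ m, p = 2 ^ m + 1) {M : Subgroup G} (hM : IsMaxAbove p A θ a M)
    (hne : wComm s M a ≠ ⊥) (q : ℕ) [Fact q.Prime] : IsGood p q A θ a := by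
  obtain ⟨hle, hfam⟩ := hm.wComm_mem ha (r := s) hM.1
  rcases eq_or_ne q s with rfl | hqs
  · exact ⟨M, hM.1, hM.2.1, (hm.bigK_le_maxAbove ha ha1 hM fun h =>
      hne (le_bot_iff.mp (hle.trans h.le))).trans pCoreOf_le⟩
  · obtain ⟨N, hN, -, hNmax⟩ := hm.exists_normalizer_member hfam hne
    refine ⟨N, hN, hNmax _ (theta_mem_family hm.func ha ha1) ?_, hNmax _ hm.bigK_mem_family.1
      ((hm.bigK_le_centralizer hqs).trans
        ((centralizer_le (hm.wComm_le_bigK ha ha1 hexc hM.1 hM.2.1)).trans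
          (centralizer_le_normalizer _)))⟩
    refine le_normalizer_commutator (hM.2.1.trans le_normalizer_pCoreOf)
      (le_trans ?_ (centralizer_le_normalizer _))
    rw [centralizer_zpowers]
    exact hm.func.1.1 a ha ha1

/-- `θ_B` normalizes `K_q` if `B` is spanned by good elements. -/
theorem signalizerInf_le_normalizer_bigK {q : ℕ} [hq : Fact q.Prime]
    (hexc : q = 2 → ¬ ∃ m, p = 2 ^ m + 1) {B : Subgroup G} (hB : IsHyp p A B)
    (hspan : ∀ D : Subgroup G, D ≤ B → D ≠ B → ∃ b ∈ B, b ∉ D ∧ IsGood p q A θ b) :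
    signalizerInf B θ ≤ normalizer (bigK p q A θ : Set G) := by
  haveI := hm.elem.1
  set K := bigK p q A θ with hK
  obtain ⟨hKfam, -⟩ := hm.bigK_mem_family (q := q)
  choose H hHfam hθH hKH using fun b : {b : G // b ∈ B ∧ b ≠ 1 ∧ IsGood p q A θ b} => b.2.2.2
  have hKJ : ∀ b, K ≤ pCoreOf q (H b) := fun b => hm.bigK_le_pCoreOf (hHfam b) (hKH b)
  have hθJ : ∀ b : {b : G // b ∈ B ∧ b ≠ 1 ∧ IsGood p q A θ b},
      θ (b : G) ≤ normalizer (pCoreOf q (H b) : Set G) := fun b => (hθH b).trans le_normalizer_pCoreOf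
  set K' := (⨆ b, ⁅pCoreOf q (H b), zpowers (b : G)⁆) ⊔ delta q θ B with hK'
  have hnorm : signalizerInf B θ ≤ normalizer (K' : Set G) := by
    refine Coprime.le_normalizer_sup (le_normalizer_iSup fun b => ?_)
      hm.signalizerInf_le_normalizer_delta
    refine le_normalizer_commutator ((signalizerInf_le b.2.1 b.2.2.1).trans (hθJ b))
      (le_trans ?_ (centralizer_le_normalizer _))
    rw [centralizer_zpowers]
    exact (signalizerInf_le b.2.1 b.2.2.1).trans (hm.func.1.1 _ (hB.1 b.2.1) b.2.2.1)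
  suffices hKK : K = K' from hnorm.trans (le_of_eq (by rw [← hKK, hK]))
  refine le_antisymm ?_ (sup_le (iSup_le fun b => hm.commutator_le_bigK hexc
    (family_of_le' (hHfam b) pCoreOf_le
      ((member_normalizer (hHfam b)).trans normalizer_le_normalizer_pCoreOf))
    isPGroup_pCoreOf (hB.1 b.2.1) b.2.2.1 (hθJ b))
    (le_iSup (fun B : {B : Subgroup G // IsHyp p A B} => delta q θ (B : Subgroup G)) ⟨B, hB⟩))
  have hall : ∀ n, ∀ D : Subgroup G, D ≤ B → Nat.card B - Nat.card D = n →
      K ⊓ centralizer (D : Set G) ≤ K' := by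
    intro n
    induction n using Nat.strong_induction_on with
    | _ n IH =>
    intro D hD hn
    rcases eq_or_ne D B with rfl | hDne
    · refine le_trans (le_iInf fun b => ?_) le_sup_right
      obtain ⟨b, hb, hb1⟩ := b
      refine le_trans (le_inf ?_ inf_le_left)
        (hm.inf_bigK_le_pCoreOf (theta_mem_family hm.func (hB.1 hb) hb1))
      exact (inf_centralizer_le_signalizerInf hKfam hB.1).trans (signalizerInf_le hb hb1)
    obtain ⟨b, hb, hbD, hbgood⟩ := hspan D hD hDne
    have hb1 : b ≠ 1 := fun h => hbD (h ▸ one_mem D)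
    set D' := D ⊔ zpowers b with hD'
    have hD'B : D' ≤ B := sup_le hD (zpowers_le.mpr hb)
    have hlt : Nat.card D < Nat.card D' := lt_of_le_of_ne (card_le_of_le le_sup_left) fun h =>
      hbD ((eq_of_le_of_card_ge (le_sup_left : D ≤ D') h.ge).ge (mem_sup_right (mem_zpowers b)))
    set Y := K ⊓ centralizer (D : Set G) with hY
    have hAY : A ≤ normalizer (Y : Set G) := Coprime.le_normalizer_inf (member_normalizer hKfam)
      (le_normalizer_centralizer_of_le hm.elem (hD.trans hB.1))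
    have hzA : zpowers b ≤ A := zpowers_le.mpr (hB.1 hb)
    rw [← Coprime.commutator_sup_centralizer (zpowers b) Y (hzA.trans hAY)
      (((hm.coprime hKfam).coprime_dvd_left (card_dvd_of_le hzA)).coprime_dvd_right
        (card_dvd_of_le inf_le_left)) (Or.inl (Group.isSolvable_of_comm fun x y => mul_comm' x y))]
    refine sup_le ?_ ?_
    · refine le_trans ?_ (le_trans (le_iSup (fun b : {b : G // b ∈ B ∧ b ≠ 1 ∧ IsGood p q A θ b} =>
        ⁅pCoreOf q (H b), zpowers (b : G)⁆) ⟨b, hb, hb1, hbgood⟩) le_sup_left)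
      exact commutator_mono (inf_le_left.trans (hKJ _)) le_rfl
    · refine le_trans ?_ (IH _ ?_ D' hD'B rfl)
      · refine le_inf (inf_le_left.trans inf_le_left) ?_
        rw [le_centralizer_iff]
        exact sup_le (le_centralizer_iff.mp (inf_le_left.trans inf_le_right))
          (le_centralizer_iff.mp inf_le_right)
      · have := card_le_of_le hD'B
        omega
  refine le_trans (le_inf le_rfl ?_) (hall _ ⊥ bot_le rfl)
  exact fun x _ => mem_centralizer_iff.mpr fun y hy => by simp [mem_bot.mp hy]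

/-- All elements are good for every prime, so there is no minimal counterexample, when Flavell's
lemma has no exception. -/
theorem false_of_not_fermat (hexc : ¬ ∃ m, p = 2 ^ m + 1) : False := by
  obtain ⟨a, ha, ha1, -⟩ := hm.exists_ne_bot
  obtain ⟨M, -, hM⟩ := hm.exists_maxAbove_ge (theta_mem_family hm.func ha ha1) (le_refl (θ a))
  obtain ⟨q, hq, hne⟩ := hm.exists_wComm_ne_bot ha ha1 hM
  haveI := Fact.mk hq
  have hKne : bigK p q A θ ≠ ⊥ := fun h =>
    hne (le_bot_iff.mp ((hm.wComm_le_bigK ha ha1 (fun _ => hexc) hM.1 hM.2.1).trans h.le))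
  refine hm.false_of_normalized hm.bigK_mem_family.1 hKne fun c hc hc1 =>
    hm.theta_le hc hc1 fun B hB _ =>
      hm.signalizerInf_le_normalizer_bigK (fun _ => hexc) hB fun D hD hne' => ?_
  obtain ⟨b, hb, hbD⟩ := SetLike.exists_of_lt (lt_of_le_of_ne hD hne')
  have hb1 : b ≠ 1 := fun h => hbD (h ▸ one_mem D)
  obtain ⟨M', -, hM'⟩ := hm.exists_maxAbove_ge (theta_mem_family hm.func (hB.1 hb) hb1) (le_refl (θ b))
  obtain ⟨s, hs, hsne⟩ := hm.exists_wComm_ne_bot (hB.1 hb) hb1 hM'
  haveI := Fact.mk hs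
  exact ⟨b, hb, hbD, hm.isGood_of_wComm (hB.1 hb) hb1 (fun _ => hexc) hM' hsne q⟩

end IsMinBad

/-- The solvable signalizer functor theorem when `p` is not a Fermat prime (nor `2`). -/
theorem completable_of_not_fermat_aux (hexc : ¬ ∃ m, p = 2 ^ m + 1) : ∀ (n : ℕ) (H : Type u) [Group H]
    [Finite H] (B : Subgroup H) (σ : H → Subgroup H), mass B σ = n → IsElementaryAbelian p B →
    p ^ 3 ≤ Nat.card B → IsSolvableSignalizerFunctor p B σ → Completable p B σ := by
  intro n
  induction n using Nat.strong_induction_on with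
  | _ n IH =>
  intro H _ _ B σ hn hB hB3 hσ
  by_contra hbad
  exact IsMinBad.false_of_not_fermat (⟨hB, hB3, hσ, hbad,
    fun K _ _ C τ hC hC3 hτ hlt => IH _ (hn ▸ hlt) K C τ rfl hC hC3 hτ⟩ : IsMinBad p B σ) hexc

theorem completable_of_not_fermat (hexc : ¬ ∃ m, p = 2 ^ m + 1) (hA : IsElementaryAbelian p A)
    (hA3 : p ^ 3 ≤ Nat.card A) (hθ : IsSolvableSignalizerFunctor p A θ) : Completable p A θ :=
  completable_of_not_fermat_aux hexc _ G A θ rfl hA hA3 hθ

end Cfsg.Agent.SFT49
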