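import Cfsg.Agent.SFT49.Absorb

/-!
Odd cores inside a minimal counterexample: a central element of a maximal `2`-member moves the odd
invariant subgroups of each value into the odd core, and the odd member above all invariant odd
subgroups.
-/

set_option autoImplicit false
set_option linter.style.haveILetI false
set_option maxHeartbeats 400000

universe u

namespace Cfsg.Agent.SFT49

open Subgroup Coprime Signal38 SFT45
open scoped commutatorElement IsMulCommutative Pointwise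

theorem eq_one_of_mem_isPGroup {K : Type*} [Group K] {q : ℕ} (hq : q.Prime) {P : Subgroup K}
    (hP : IsPGroup q P) {w : K} (hw : w ∈ P) {n : ℕ} (hd : orderOf w ∣ n) (hn : ¬ q ∣ n) :
    w = 1 := by
  obtain ⟨j, hj⟩ := hP ⟨w, hw⟩
  exact orderOf_eq_one_iff.mp (Nat.eq_one_of_dvd_coprimes
    ((hq.coprime_iff_not_dvd.mpr hn).pow_left j)
    (orderOf_dvd_of_pow_eq_one (by simpa using congrArg Subtype.val hj)) hd)

theorem not_dvd_card_of_isPGroup {K : Type*} [Group K] [Finite K] {q r : ℕ} [Fact q.Prime]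
    (hr : r.Prime) (hrq : r ≠ q) {P : Subgroup K} (hP : IsPGroup q P) : ¬ r ∣ Nat.card P := by
  intro hd
  obtain ⟨n, hn⟩ := IsPGroup.iff_card.mp hP
  rw [hn] at hd
  exact hrq ((Nat.prime_dvd_prime_iff_eq hr Fact.out).mp (hr.dvd_of_dvd_pow hd))

/-- In a solvable group an element commuting with the part of a Sylow `2`-subgroup over
`O_2(K/O(K))` maps into `O_2(K/O(K))`. -/
theorem quotient_mem_pCore {K : Type*} [Group K] [Finite K] [Group.IsSolvable K]
    [Fact (Nat.Prime 2)] (S : Sylow 2 K) (x : K)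
    (hx : ∀ y ∈ (S : Subgroup K),
      QuotientGroup.mk' (pPrimeCore 2 K) y ∈ pCore 2 (K ⧸ pPrimeCore 2 K) →
        QuotientGroup.mk' (pPrimeCore 2 K) ⁅x, y⁆ = 1) :
    QuotientGroup.mk' (pPrimeCore 2 K) x ∈ pCore 2 (K ⧸ pPrimeCore 2 K) := by
  haveI : Group.IsSolvable (K ⧸ pPrimeCore 2 K) :=
    Group.isSolvable_of_surjective (QuotientGroup.mk'_surjective _)
  have hF := Components.fitting_eq_pCore_of_pPrimeCore_eq_bot (p := 2)
    (Thompson.pPrimeCore_quotient_pPrimeCore (p := 2) (G := K))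
  have hS : pCore 2 (K ⧸ pPrimeCore 2 K) ≤ (S : Subgroup K).map (QuotientGroup.mk' _) := by
    have h := Thompson.pCore_le_sylow (S.mapSurjective (QuotientGroup.mk'_surjective (pPrimeCore 2 K)))
    rwa [Sylow.coe_mapSurjective] at h
  rw [← hF]
  refine Fitting.centralizer_fitting_le (mem_centralizer_iff.mpr fun w hw => ?_)
  rw [SetLike.mem_coe, hF] at hw
  obtain ⟨y, hy, rfl⟩ := hS hw
  have h := hx y hy hw
  rw [map_commutatorElement] at h
  exact (commutatorElement_eq_one_iff_mul_comm.mp h).symm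

section OddOf

variable {G : Type u} [Group G] {H : Subgroup G}

/-- `O(H)`, the largest normal subgroup of `H` of odd order. -/
def oddOf (H : Subgroup G) : Subgroup G := (pPrimeCore 2 H).map H.subtype

theorem oddOf_le : oddOf H ≤ H := map_subtype_le _

variable [Finite G]

theorem normalizer_le_normalizer_oddOf :
    normalizer (H : Set G) ≤ normalizer (oddOf H : Set G) :=
  Coprime.normalizer_le_normalizer_map H _

theorem le_normalizer_oddOf : H ≤ normalizer (oddOf H : Set G) :=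
  le_normalizer.trans normalizer_le_normalizer_oddOf

theorem not_two_dvd_oddOf : ¬ 2 ∣ Nat.card (oddOf H) := fun h => by
  haveI := Fact.mk Nat.prime_two
  exact Nat.prime_two.ne_one (Nat.eq_one_of_dvd_coprimes
    (Thompson.card_pPrimeCore_coprime (p := 2) (G := H))
    (h.trans (card_map_dvd _ _)) dvd_rfl)

theorem le_oddOf {N : Subgroup G} (hN : N ≤ H) (hn : H ≤ normalizer (N : Set G))
    (h2 : ¬ 2 ∣ Nat.card N) : N ≤ oddOf H := by
  rw [← map_subgroupOf_eq_of_le hN]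
  refine map_mono (Thompson.le_pPrimeCore ((normal_subgroupOf_iff_le_normalizer hN).mpr hn) ?_)
  rw [Nat.card_congr (subgroupOfEquivOfLe hN).toEquiv]
  exact (Nat.prime_two.coprime_iff_not_dvd.mpr h2).symm

theorem pCoreOf_le_oddOf {r : ℕ} [Fact r.Prime] (hr : r ≠ 2) : pCoreOf r H ≤ oddOf H :=
  le_oddOf pCoreOf_le le_normalizer_pCoreOf
    (not_dvd_card_of_isPGroup Nat.prime_two hr.symm isPGroup_pCoreOf)

/-- If `z` centralizes a Sylow `2`-subgroup of a solvable `H` and normalizes `D ≤ H` of odd order,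
then `⁅D, z⁆ ≤ O(H)`. -/
theorem commutator_le_oddOf [Fact (Nat.Prime 2)] {D : Subgroup G} (hH : Group.IsSolvable H) (S : Sylow 2 H) {z : G}
    (hz : z ∈ H) (hzS : (S : Subgroup H).map H.subtype ≤ centralizer ({z} : Set G)) (hDH : D ≤ H)
    (hD : ¬ 2 ∣ Nat.card D) (hzD : z ∈ normalizer (D : Set G)) :
    ⁅D, zpowers z⁆ ≤ oddOf H := by
  haveI := hH
  refine commutator_zpowers_le (le_normalizer_oddOf hz) fun k hk => ?_
  set π := QuotientGroup.mk' (pPrimeCore 2 H) with hπ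
  set x : H := ⟨k, hDH hk⟩
  set z' : H := ⟨z, hz⟩
  have hz' : π z' ∈ pCore 2 (H ⧸ pPrimeCore 2 H) := quotient_mem_pCore S z' fun y hy _ => by
    rw [show ⁅z', y⁆ = 1 from commutatorElement_eq_one_iff_mul_comm.mpr (Subtype.ext
      (mem_centralizer_singleton_iff.mp (hzS ⟨y, hy, rfl⟩)).symm), map_one]
  have hmem : π ⁅x, z'⁆ ∈ pCore 2 (H ⧸ pPrimeCore 2 H) := by
    rw [map_commutatorElement, commutatorElement_def]
    exact mul_mem ((inferInstance : (pCore 2 (H ⧸ pPrimeCore 2 H)).Normal).conj_mem _ hz' _)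
      (inv_mem hz')
  have hwD : ((⁅x, z'⁆ : H) : G) ∈ D := by
    rw [show ((⁅x, z'⁆ : H) : G) = k * (z * k⁻¹ * z⁻¹) by
      simp [x, z', commutatorElement_def, mul_assoc]]
    exact mul_mem hk (conj_mem_of_mem_normalizer hzD (inv_mem hk))
  have hdvd : orderOf (π ⁅x, z'⁆) ∣ Nat.card D := by
    refine (orderOf_map_dvd π _).trans ?_
    rw [← Subgroup.orderOf_coe, ← Subgroup.orderOf_mk _ hwD]
    exact orderOf_dvd_natCard _
  have h1 := eq_one_of_mem_isPGroup Nat.prime_two Thompson.isPGroup_pCore hmem hdvd hD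
  exact ⟨⁅x, z'⁆, (QuotientGroup.eq_one_iff _).mp h1, by
    simp [x, z', commutatorElement_def]⟩

/-- An element of odd order whose commutators with a Sylow `2`-subgroup of a solvable `H` have odd
order lies in `O(H)`. -/
theorem mem_oddOf_of_forall [Fact (Nat.Prime 2)] (hH : Group.IsSolvable H) (S : Sylow 2 H) {x : G} (hxH : x ∈ H)
    (hx2 : ¬ 2 ∣ orderOf x)
    (h : ∀ y ∈ (S : Subgroup H).map H.subtype, ¬ 2 ∣ orderOf ⁅x, y⁆) : x ∈ oddOf H := by
  haveI := hH
  set π := QuotientGroup.mk' (pPrimeCore 2 H) with hπ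
  set x' : H := ⟨x, hxH⟩
  have hx' : π x' ∈ pCore 2 (H ⧸ pPrimeCore 2 H) := quotient_mem_pCore S x' fun y hy hyF => by
    have hmem : π ⁅x', y⁆ ∈ pCore 2 (H ⧸ pPrimeCore 2 H) := by
      rw [map_commutatorElement, commutatorElement_def]
      exact mul_mem ((inferInstance : (pCore 2 (H ⧸ pPrimeCore 2 H)).Normal).conj_mem _ hyF _)
        (inv_mem hyF)
    refine eq_one_of_mem_isPGroup Nat.prime_two Thompson.isPGroup_pCore hmem
      ((orderOf_map_dvd π _).trans (dvd_of_eq ?_)) (h _ ⟨y, hy, rfl⟩)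
    rw [← Subgroup.orderOf_coe]
    simp [x', commutatorElement_def]
  have h1 := eq_one_of_mem_isPGroup Nat.prime_two Thompson.isPGroup_pCore hx'
    ((orderOf_map_dvd π x').trans (dvd_of_eq (Subgroup.orderOf_mk x hxH))) hx2
  exact ⟨x', (QuotientGroup.eq_one_iff _).mp h1, rfl⟩

end OddOf

variable {G : Type u} [Group G] [Finite G] {p : ℕ} [hp : Fact p.Prime] {A : Subgroup G}
  {θ : G → Subgroup G}

/-- The intersection of the invariant Hall `2'`-subgroups of `θ a`. -/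
def oddInf (A : Subgroup G) (θ : G → Subgroup G) (a : G) : Subgroup G :=
  ⨅ H : {H : Subgroup G // IsPiHallOf {r | r ≠ 2} H (θ a) ∧ A ≤ normalizer (H : Set G)},
    (H : Subgroup G)

/-- A nontrivial element of `θ(A)` central in a maximal `2`-member. -/
structure IsCentralTwo (p : ℕ) (A : Subgroup G) (θ : G → Subgroup G) (Q : Subgroup G) (z : G) :
    Prop where
  maxQ : IsMaxQ p 2 A θ Q
  mem : z ∈ Q
  comm : Q ≤ centralizer ({z} : Set G)
  inf : z ∈ signalizerInf A θ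
  ne_one : z ≠ 1

namespace IsMinBad

variable (hm : IsMinBad p A θ)
include hm

/-- A member meeting each centralizer in a group of order prime to `r` has order prime to `r`. -/
theorem not_dvd_card_member {r : ℕ} (hr : r.Prime) {U : Subgroup G}
    (hU : U ∈ signalizerFamily p A θ)
    (h : ∀ a ∈ A, a ≠ 1 → ¬ r ∣ Nat.card (U ⊓ centralizer ({a} : Set G) : Subgroup G)) :
    ¬ r ∣ Nat.card U := by
  intro hd
  haveI := Fact.mk hr
  obtain ⟨S, hS⟩ := Coprime.exists_invariant_sylow A U (member_normalizer hU) (hm.coprime hU)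
    (Or.inl (isSolvable_elementary hm.elem)) r
  set P := (S : Subgroup U).map U.subtype with hP
  have hPne : P ≠ ⊥ := by
    rw [hP, Ne, map_eq_bot_iff_of_injective _ U.subtype_injective]
    exact S.ne_bot_of_dvd_card hd
  refine hPne (le_bot_iff.mp (hm.member_le (family_of_le' hU (map_subtype_le _) hS) fun a ha ha1 =>
    fun x hx => mem_bot.mpr ?_))
  refine eq_one_of_mem_isPGroup hr (S.isPGroup'.map _) (mem_inf.mp hx).1 ?_ (h a ha ha1)
  rw [← Subgroup.orderOf_mk x (show x ∈ U ⊓ centralizer ({a} : Set G) from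
    ⟨map_subtype_le _ (mem_inf.mp hx).1, (mem_inf.mp hx).2⟩)]
  exact orderOf_dvd_natCard _

/-- A maximal `q`-member meets a member containing `θ(A)` in a Sylow subgroup. -/
theorem exists_sylow_inf {q : ℕ} [Fact q.Prime] {Q : Subgroup G} (hQ : IsMaxQ p q A θ Q)
    {H : Subgroup G} (hH : H ∈ signalizerFamily p A θ) (hAH : signalizerInf A θ ≤ H) :
    ∃ S : Sylow q H, (S : Subgroup H).map H.subtype = Q ⊓ H := by
  obtain ⟨c, hc, S, hS⟩ := exists_conj_inf_sylow hm.elem hm.rank hm.func hQ hH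
  refine ⟨(⟨c, hAH hc⟩ : H)⁻¹ • S, ?_⟩
  have h2 : H.map (MulAut.conj c⁻¹).toMonoidHom = H :=
    Subgroup.mem_normalizer_iff_map_conj_eq.mp (inv_mem (Subgroup.le_normalizer (hAH hc)))
  rw [coe_sylow_smul_map, hS, Subgroup.map_inf _ _ _ (MulAut.conj _).injective]
  show (Q.map (MulAut.conj c).toMonoidHom).map (MulAut.conj c⁻¹).toMonoidHom ⊓
    H.map (MulAut.conj c⁻¹).toMonoidHom = Q ⊓ H
  rw [map_conj_inv_map c Q, h2]

/-- `⁅D, z⁆ ≤ O(θ e)` for an invariant odd `D ≤ θ e`. -/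
theorem commutator_le_oddOf_theta {Q : Subgroup G} {z : G} (hz : IsCentralTwo p A θ Q z) {e : G}
    (he : e ∈ A) (he1 : e ≠ 1) {D : Subgroup G} (hD : D ≤ θ e) (hD2 : ¬ 2 ∣ Nat.card D)
    (hzD : z ∈ normalizer (D : Set G)) : ⁅D, zpowers z⁆ ≤ oddOf (θ e) := by
  haveI := Fact.mk Nat.prime_two
  obtain ⟨S, hS⟩ := hm.exists_sylow_inf hz.maxQ (theta_mem_family hm.func he he1)
    (signalizerInf_le he he1)
  exact commutator_le_oddOf (hm.func.2 e he he1) S (signalizerInf_le he he1 hz.inf)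
    (hS.le.trans (inf_le_left.trans hz.comm)) hD hD2 hzD

theorem oddInf_spec {a : G} (ha : a ∈ A) (ha1 : a ≠ 1) :
    oddInf A θ a ≤ θ a ∧ ¬ 2 ∣ Nat.card (oddInf A θ a) ∧
      A ≤ normalizer (oddInf A θ a : Set G) := by
  have hθ := theta_mem_family hm.func ha ha1
  obtain ⟨H, hH, hAH⟩ := Coprime.exists_invariant_hall A (θ a) (member_normalizer hθ)
    (hm.coprime hθ) hθ.1 {r | r ≠ 2}
  have hle : oddInf A θ a ≤ H := iInf_le
    (fun H : {H : Subgroup G // IsPiHallOf {r | r ≠ 2} H (θ a) ∧ A ≤ normalizer (H : Set G)} =>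
      (H : Subgroup G)) ⟨H, hH, hAH⟩
  exact ⟨hle.trans hH.1, fun hd => hH.2.1 2 Nat.prime_two (hd.trans (card_dvd_of_le hle)) rfl,
    SFT45.le_normalizer_iInf fun H => H.2.2⟩

theorem mem_centralizer_inf {a : G} (ha : a ∈ A) (ha1 : a ≠ 1) {c : G}
    (hc : c ∈ signalizerInf A θ) : c ∈ θ a ⊓ centralizer (A : Set G) :=
  (signalizerInf_eq hm.func.1 ha ha1).le hc

theorem signalizerInf_le_normalizer_oddInf {a : G} (ha : a ∈ A) (ha1 : a ≠ 1) :
    signalizerInf A θ ≤ normalizer (oddInf A θ a : Set G) := by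
  refine Coprime.le_normalizer_of_conj_mem fun c hc y hy => mem_iInf.mpr fun ⟨H, hH, hAH⟩ => ?_
  obtain ⟨hcθ, hcA⟩ := mem_inf.mp (hm.mem_centralizer_inf ha ha1 hc)
  have hAH' : A ≤ normalizer ((H.map (conjHom c⁻¹) : Subgroup G) : Set G) := by
    refine Coprime.le_normalizer_of_conj_mem fun b hb => ?_
    rintro _ ⟨h, hh, rfl⟩
    refine ⟨b * h * b⁻¹, conj_mem_of_mem_normalizer (hAH hb) hh, ?_⟩
    have hcb : b * c⁻¹ = c⁻¹ * b := mem_centralizer_iff.mp (inv_mem hcA) b hb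
    show c⁻¹ * (b * h * b⁻¹) * c⁻¹⁻¹ = b * (c⁻¹ * h * c⁻¹⁻¹) * b⁻¹
    calc c⁻¹ * (b * h * b⁻¹) * c⁻¹⁻¹ = (c⁻¹ * b) * h * (c⁻¹ * b)⁻¹ := by group
      _ = (b * c⁻¹) * h * (b * c⁻¹)⁻¹ := by rw [hcb]
      _ = _ := by group
  obtain ⟨h, hh, he⟩ := (mem_iInf.mp hy)
    ⟨H.map (conjHom c⁻¹), isPiHallOf_map_conj (inv_mem (le_normalizer hcθ)) hH, hAH'⟩
  have : c * y * c⁻¹ = h := by
    rw [← he]
    show c * (c⁻¹ * h * c⁻¹⁻¹) * c⁻¹ = h
    group
  rw [this]
  exact hh

/-- An invariant odd subgroup of `θ a` normalized by `θ(A)` lies in `oddInf`. -/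
theorem le_oddInf {a : G} (ha : a ∈ A) (ha1 : a ≠ 1) {X : Subgroup G} (hX : X ≤ θ a)
    (hAX : A ≤ normalizer (X : Set G)) (hX2 : ¬ 2 ∣ Nat.card X)
    (hn : signalizerInf A θ ≤ normalizer (X : Set G)) : X ≤ oddInf A θ a := by
  refine le_iInf fun ⟨H, hH, hAH⟩ => ?_
  have hθ := theta_mem_family hm.func ha ha1
  obtain ⟨H1, hH1, hAH1, hXH1⟩ := Coprime.exists_invariant_hall_ge (Nat.card (θ a)) G A (θ a) X
    (member_normalizer hθ) (hm.coprime hθ) hθ.1 rfl hX hAX {r | r ≠ 2}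
    fun r hr hd => fun h2 => hX2 (h2 ▸ hd)
  obtain ⟨c, hc, he⟩ := Coprime.exists_invariant_hall_conj A (θ a) (member_normalizer hθ)
    (hm.coprime hθ) hθ.1 hH1 hAH1 hH hAH
  have hcA : c ∈ signalizerInf A θ := (signalizerInf_eq hm.func.1 ha ha1).ge hc
  show X ≤ H
  rw [← he, ← map_conj_eq_self (hn hcA)]
  exact map_mono hXH1

/-- A member of odd order containing every invariant odd member normalized by `θ(A)`. -/
theorem exists_oddMember {Q : Subgroup G} {z : G} (hz : IsCentralTwo p A θ Q z) :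
    ∃ O ∈ signalizerFamily p A θ, ¬ 2 ∣ Nat.card O ∧
      signalizerInf A θ ≤ normalizer (O : Set G) ∧
      ∀ U ∈ signalizerFamily p A θ, ¬ 2 ∣ Nat.card U →
        signalizerInf A θ ≤ normalizer (U : Set G) → U ≤ O := by
  haveI := Fact.mk Nat.prime_two
  have hAc : ∀ {b : G}, b ∈ A → signalizerInf A θ ≤ normalizer (centralizer ({b} : Set G) : Set G) :=
    fun hb => ((signalizerInf_le_centralizer hm.func.1 le_rfl).trans
      (centralizer_le (Set.singleton_subset_iff.mpr hb))).trans le_normalizer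
  have hne : ∃ a ∈ A, a ≠ 1 ∧ oddInf A θ a ≠ θ a := by
    obtain ⟨b, hb, -, hb1⟩ := exists_mem_inf hm.elem hm.rank
      (⟨le_rfl, Nat.le_mul_of_pos_left _ hp.out.pos⟩ : IsHyp p A A)
      ⟨le_rfl, Nat.le_mul_of_pos_left _ hp.out.pos⟩
    refine ⟨b, hb, hb1, fun h => hz.ne_one ?_⟩
    have hzo : z ∈ oddInf A θ b := h.symm ▸ signalizerInf_le hb hb1 hz.inf
    refine eq_one_of_mem_isPGroup Nat.prime_two hz.maxQ.1.2 hz.mem ?_ (hm.oddInf_spec hb hb1).2.1
    rw [← Subgroup.orderOf_mk z hzo]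
    exact orderOf_dvd_natCard _
  obtain ⟨W, hW, hle, hge⟩ := hm.exists_completion (oddInf A θ)
    (fun a ha ha1 => (hm.oddInf_spec ha ha1).1) (fun a ha ha1 => (hm.oddInf_spec ha ha1).2.2)
    (fun a ha ha1 b hb hb1 => hm.le_oddInf hb hb1
      ((inf_le_inf_right _ (hm.oddInf_spec ha ha1).1).trans (hm.func.1.2.2.2 a ha ha1 b hb hb1))
      (Coprime.le_normalizer_inf (hm.oddInf_spec ha ha1).2.2
        ((le_centralizer_singleton hm.elem hb).trans le_normalizer))
      (fun hd => (hm.oddInf_spec ha ha1).2.1 (hd.trans (card_dvd_of_le inf_le_left)))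
      (Coprime.le_normalizer_inf (hm.signalizerInf_le_normalizer_oddInf ha ha1) (hAc hb)))
    hne
  refine ⟨W, hW, hm.not_dvd_card_member Nat.prime_two hW fun a ha ha1 hd =>
    (hm.oddInf_spec ha ha1).2.1 (hd.trans (card_dvd_of_le (hge a ha ha1))), ?_,
    fun U hU hU2 hUn => hm.member_le hU fun a ha ha1 => ?_⟩
  · have hW' : W = ⨆ a : {a : G // a ∈ A ∧ a ≠ 1}, oddInf A θ (a : G) :=
      le_antisymm (hm.member_le hW fun a ha ha1 => (hge a ha ha1).trans
        (le_iSup (fun a : {a : G // a ∈ A ∧ a ≠ 1} => oddInf A θ (a : G)) ⟨a, ha, ha1⟩))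
        (iSup_le fun a => hle _ a.2.1 a.2.2)
    rw [hW']
    exact le_normalizer_iSup fun a => hm.signalizerInf_le_normalizer_oddInf a.2.1 a.2.2
  · refine (hm.le_oddInf ha ha1 (hU.2.2.2 a ha ha1)
      (Coprime.le_normalizer_inf (member_normalizer hU)
        ((le_centralizer_singleton hm.elem ha).trans le_normalizer))
      (fun hd => hU2 (hd.trans (card_dvd_of_le inf_le_left)))
      (Coprime.le_normalizer_inf hUn (hAc ha))).trans (hle a ha ha1)

end IsMinBad

end Cfsg.Agent.SFT49
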