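import Cfsg.Agent.SFT49.Good

/-!
`θ_B` normalizes `K_q` as soon as every nonidentity element of `B` is good for `q`; no use is made
of Flavell's lemma.
-/

set_option autoImplicit false
set_option linter.style.haveILetI false
set_option maxHeartbeats 400000

universe u

namespace Cfsg.Agent.SFT49

open Subgroup Coprime Signal38 SFT45
open scoped commutatorElement IsMulCommutative Pointwise

variable {G : Type u} [Group G] [Finite G] {p : ℕ} [hp : Fact p.Prime] {A : Subgroup G}
  {θ : G → Subgroup G}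

namespace IsMinBad

variable (hm : IsMinBad p A θ) {q : ℕ} [hq : Fact q.Prime]
include hm

omit hq in
/-- An element with a maximal member above its value having nontrivial `q`-core is good. -/
theorem isGood_of_pCoreOf {a : G} (ha : a ∈ A) (ha1 : a ≠ 1) [Fact q.Prime] {M : Subgroup G}
    (hM : IsMaxAbove p A θ a M) (hR : pCoreOf q M ≠ ⊥) : IsGood p q A θ a :=
  ⟨M, hM.1, hM.2.1, (hm.bigK_le_maxAbove ha ha1 hM hR).trans pCoreOf_le⟩

/-- `θ_B` normalizes `K_q` if every nonidentity element of `B` is good. -/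
theorem signalizerInf_le_normalizer_of_forall_good {B : Subgroup G} (hB : IsHyp p A B)
    (hgood : ∀ b ∈ B, b ≠ 1 → IsGood p q A θ b) :
    signalizerInf B θ ≤ normalizer (bigK p q A θ : Set G) := by
  choose H hH hθH hKH using fun b : {b : G // b ∈ B ∧ b ≠ 1} => hgood b.1 b.2.1 b.2.2
  set J : Subgroup G := ⨅ b, pCoreOf q (H b) with hJ
  obtain ⟨b₀, hb₀, -, hb₀1⟩ := exists_mem_inf hm.elem hm.rank hB hB
  have hJle : J ≤ pCoreOf q (H ⟨b₀, hb₀, hb₀1⟩) := iInf_le (fun b => pCoreOf q (H b)) _
  have hAJ : A ≤ normalizer (J : Set G) := SFT45.le_normalizer_iInf fun b =>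
    (member_normalizer (hH b)).trans normalizer_le_normalizer_pCoreOf
  have hJfam : J ∈ signalizerFamily p A θ := family_of_le' (hH _) (hJle.trans pCoreOf_le) hAJ
  have hKJ : bigK p q A θ = J := by
    refine le_antisymm (le_iInf fun b => hm.bigK_le_pCoreOf (hH b) (hKH b))
      (le_of_forall_hyp hm.elem hAJ (family_coprime hJfam) fun E hE => ?_)
    refine le_trans (le_iInf fun d => ?_)
      (le_iSup (fun E : {E : Subgroup G // IsHyp p A E} => delta q θ (E : Subgroup G)) ⟨E, hE⟩)
    obtain ⟨d, hd, hd1⟩ := d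
    refine hm.le_pCoreOf_of_forall_hyp (theta_mem_family hm.func (hE.1 hd) hd1)
      ((inf_centralizer_le_signalizerInf hJfam hE.1).trans (signalizerInf_le hd hd1))
      ((isPGroup_pCoreOf (q := q)).to_le (inf_le_left.trans hJle)) fun E' hE' => ?_
    obtain ⟨e, heE, heB, he1⟩ := exists_mem_inf hm.elem hm.rank hE' hB
    refine ⟨pCoreOf q (H ⟨e, heB, he1⟩), isPGroup_pCoreOf,
      inf_le_left.trans (iInf_le (fun b => pCoreOf q (H b)) _), ?_⟩
    refine le_trans ?_ ((hθH ⟨e, heB, he1⟩).trans le_normalizer_pCoreOf)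
    exact (inf_le_inf_left _ (centralizer_le (Set.singleton_subset_iff.mpr heE))).trans
      (hm.func.1.2.2.2 d (hE.1 hd) hd1 e (hB.1 heB) he1)
  rw [hKJ]
  exact SFT45.le_normalizer_iInf fun b =>
    (signalizerInf_le b.2.1 b.2.2).trans ((hθH b).trans le_normalizer_pCoreOf)

/-- If `K_q` is nontrivial, some nonidentity element of `A` is not good. -/
theorem exists_not_isGood (hK : bigK p q A θ ≠ ⊥) :
    ∃ b ∈ A, b ≠ 1 ∧ ¬ IsGood p q A θ b := by
  by_contra h
  push Not at h
  exact hm.false_of_normalized hm.bigK_mem_family.1 hK fun c hc hc1 =>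
    hm.theta_le hc hc1 fun B hB _ =>
      hm.signalizerInf_le_normalizer_of_forall_good hB fun b hb hb1 => h b (hB.1 hb) hb1

end IsMinBad

end Cfsg.Agent.SFT49
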