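import Cfsg.Agent.SFT49.Delta
import Cfsg.Agent.SFT45.Prune

/-!
In a minimal counterexample no nontrivial element of `A` centralizes every core of a maximal member
containing its value.
-/

set_option autoImplicit false
set_option linter.style.haveILetI false

universe u

namespace Cfsg.Agent.SFT49

open Subgroup Coprime Signal38 SFT45
open scoped commutatorElement IsMulCommutative Pointwise

variable {G : Type u} [Group G] [Finite G]

variable {p : ℕ} [hp : Fact p.Prime] {A : Subgroup G} {θ : G → Subgroup G}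

namespace IsMinBad

variable (hm : IsMinBad p A θ)
include hm

/-- An invariant subgroup of `θ a` containing each `⁅θ d, a⁆ ⊓ C(a)` is all of `θ a`. -/
theorem theta_le_of_pieces {a : G} (ha : a ∈ A) (ha1 : a ≠ 1) {H : Subgroup G} (hHle : H ≤ θ a)
    (hAH : A ≤ normalizer (H : Set G))
    (hH : ∀ d ∈ A, d ≠ 1 → ⁅θ d, zpowers a⁆ ⊓ centralizer ({a} : Set G) ≤ H) : θ a ≤ H := by
  by_contra hne
  haveI := hm.elem.1
  have hAza : A ≤ normalizer (zpowers a : Set G) := by
    refine le_trans ?_ (centralizer_le_normalizer _)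
    rw [centralizer_zpowers]
    exact le_centralizer_singleton hm.elem ha
  have hθn : ∀ d ∈ A, d ≠ 1 → A ≤ normalizer (θ d : Set G) := fun d hd hd1 =>
    member_normalizer (theta_mem_family hm.func hd hd1)
  have hVle : ∀ d ∈ A, d ≠ 1 → ⁅θ d, zpowers a⁆ ≤ θ d := fun d hd hd1 =>
    Coprime.commutator_le_of_le_normalizer ((zpowers_le.mpr ha).trans (hθn d hd hd1))
  have hAV : ∀ d ∈ A, d ≠ 1 → A ≤ normalizer ((⁅θ d, zpowers a⁆ : Subgroup G) : Set G) :=
    fun d hd hd1 => le_normalizer_commutator (hθn d hd hd1) hAza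
  let σ : G → Subgroup G := fun d => ⁅θ d, zpowers a⁆ ⊔ (H ⊓ θ d)
  have hσle : ∀ d ∈ A, d ≠ 1 → σ d ≤ θ d := fun d hd hd1 => sup_le (hVle d hd hd1) inf_le_right
  have hσa : σ a = H := by
    have h1 : ⁅θ a, zpowers a⁆ = ⊥ := by
      rw [commutator_eq_bot_iff_le_centralizer, centralizer_zpowers]
      exact hm.func.1.1 a ha ha1
    show ⁅θ a, zpowers a⁆ ⊔ (H ⊓ θ a) = H
    rw [h1, bot_sup_eq, inf_eq_left.mpr hHle]
  have hbal : ∀ d ∈ A, d ≠ 1 → ∀ e ∈ A, e ≠ 1 → σ d ⊓ centralizer ({e} : Set G) ≤ σ e := by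
    intro d hd hd1 e he he1 x hx
    obtain ⟨hxs, hxe⟩ := mem_inf.mp hx
    have hmem : x ∈ ((⁅θ d, zpowers a⁆ : Subgroup G) : Set G) * ((H ⊓ θ d : Subgroup G) : Set G) := by
      rw [← coe_mul_of_right_le_normalizer_left _ _
        (inf_le_right.trans (le_normalizer_commutator_left (zpowers a) (θ d)))]
      exact hxs
    obtain ⟨u, hu, v, hv, rfl⟩ := Set.mem_mul.mp hmem
    have hze : zpowers e ≤ A := zpowers_le.mpr he
    obtain ⟨x', hx', y', hy', heq⟩ := Coprime.exists_mul_fixed (zpowers e) ⁅θ d, zpowers a⁆ (H ⊓ θ d)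
      (hze.trans (hAV d hd hd1)) (hze.trans (Coprime.le_normalizer_inf hAH (hθn d hd hd1)))
      (((hm.coprime (theta_mem_family hm.func hd hd1)).coprime_dvd_left
        (card_dvd_of_le hze)).coprime_dvd_right
          (card_dvd_of_le (inf_le_left.trans (hVle d hd hd1))))
      (Or.inl (Group.isSolvable_of_comm fun x y => mul_comm' x y)) u v hu hv
      (by rw [centralizer_zpowers]; exact hxe)
    rw [centralizer_zpowers] at hx' hy'
    rw [heq]
    have hle : ⁅θ d, zpowers a⁆ ⊓ centralizer ({e} : Set G) ≤ θ e :=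
      (inf_le_inf_right _ (hVle d hd hd1)).trans (hm.func.1.2.2.2 d hd hd1 e he he1)
    refine mul_mem ?_ (mem_sup_right (mem_inf.mpr ⟨(mem_inf.mp (mem_inf.mp hy').1).1,
      hm.func.1.2.2.2 d hd hd1 e he he1
        (mem_inf.mpr ⟨(mem_inf.mp (mem_inf.mp hy').1).2, (mem_inf.mp hy').2⟩)⟩))
    set W0 := ⁅θ d, zpowers a⁆ ⊓ centralizer ({e} : Set G) with hW0
    have haW : zpowers a ≤ normalizer (W0 : Set G) := (zpowers_le.mpr ha).trans
      (Coprime.le_normalizer_inf (hAV d hd hd1)
        ((le_centralizer_singleton hm.elem he).trans le_normalizer))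
    obtain ⟨s, hs, t, ht, rfl⟩ := Coprime.exists_commutator_mul_centralizer (zpowers a) W0 haW
      (((hm.coprime (theta_mem_family hm.func he he1)).coprime_dvd_left
        (card_dvd_of_le (zpowers_le.mpr ha))).coprime_dvd_right (card_dvd_of_le hle))
      (Or.inl (Group.isSolvable_of_comm fun x y => mul_comm' x y)) x' hx'
    refine mul_mem (mem_sup_left (commutator_mono hle le_rfl hs)) (mem_sup_right (mem_inf.mpr ⟨?_, ?_⟩))
    · rw [centralizer_zpowers] at ht
      exact hH d hd hd1 (mem_inf.mpr ⟨(mem_inf.mp (mem_inf.mp ht).1).1, (mem_inf.mp ht).2⟩)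
    · exact hle (mem_inf.mp ht).1
  obtain ⟨W, hW, hσW, hWσ⟩ := hm.exists_completion σ hσle
    (fun d hd hd1 => Coprime.le_normalizer_sup (hAV d hd hd1)
      (Coprime.le_normalizer_inf hAH (hθn d hd hd1))) hbal
    ⟨a, ha, ha1, fun h => hne (h.ge.trans hσa.le)⟩
  set U := ⁅W, zpowers a⁆ with hU
  have hUW : U ≤ W :=
    Coprime.commutator_le_of_le_normalizer ((zpowers_le.mpr ha).trans (member_normalizer hW))
  have hUfam : U ∈ signalizerFamily p A θ :=
    family_of_le' hW hUW (le_normalizer_commutator (member_normalizer hW) hAza)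
  have hVU : ∀ d ∈ A, d ≠ 1 → ⁅θ d, zpowers a⁆ ≤ U := fun d hd hd1 => by
    rw [← Coprime.commutator_commutator_eq (zpowers a) (θ d)
      ((zpowers_le.mpr ha).trans (hθn d hd hd1))
      ((hm.coprime (theta_mem_family hm.func hd hd1)).coprime_dvd_left
        (card_dvd_of_le (zpowers_le.mpr ha))) (Or.inr (hm.func.2 d hd hd1))]
    exact commutator_mono (le_sup_left.trans (hσW d hd hd1)) le_rfl
  have hnorm : ∀ E : Subgroup G, IsHyp p A E → signalizerInf E θ ≤ normalizer (U : Set G) := by
    intro E hE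
    have hUeq : U = ⨆ d : {d : G // d ∈ E ∧ d ≠ 1}, ⁅θ (d : G), zpowers a⁆ := by
      refine le_antisymm ?_ (iSup_le fun d => hVU d (hE.1 d.2.1) d.2.2)
      haveI : IsMulCommutative E :=
        ⟨⟨fun x y => Subtype.ext (comm_of_mem hm.elem (hE.1 x.2) (hE.1 y.2))⟩⟩
      refine commutator_le_of_pieces A ha
        (fun d : {d : G // d ∈ E ∧ d ≠ 1} => centralizer ({(d : G)} : Set G))
        (fun d => (le_centralizer_singleton hm.elem (hE.1 d.2.1)).trans le_normalizer) W _
        (member_normalizer hW) (hm.coprime hW) hW.1 (fun D hD hAD K hK => ?_) fun d => ?_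
      · exact Coprime.le_of_centralizer_le E D K (hE.not_isCyclic hm.elem hm.rank) (hE.1.trans hAD)
          (((hm.coprime hW).coprime_dvd_left (card_dvd_of_le hE.1)).coprime_dvd_right
            (card_dvd_of_le hD)) fun e he he1 => hK ⟨e, he, he1⟩
      · exact le_trans (commutator_mono ((hWσ d (hE.1 d.2.1) d.2.2).trans (hσle d (hE.1 d.2.1) d.2.2))
          le_rfl) (le_iSup (fun d : {d : G // d ∈ E ∧ d ≠ 1} => ⁅θ (d : G), zpowers a⁆) d)
    rw [hUeq]
    exact le_normalizer_iSup fun d =>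
      (signalizerInf_le d.2.1 d.2.2).trans (le_normalizer_commutator_left _ _)
  rcases eq_or_ne U ⊥ with h | h
  · refine hm.bad ⟨θ a, theta_mem_family hm.func ha ha1, fun d hd hd1 x hx => ?_⟩
    have h1 : θ d ≤ centralizer ({a} : Set G) := by
      rw [← centralizer_zpowers, ← commutator_eq_bot_iff_le_centralizer, ← le_bot_iff]
      exact (hVU d hd hd1).trans h.le
    exact hm.func.1.2.2.2 d hd hd1 a ha ha1 (mem_inf.mpr ⟨hx, h1 hx⟩)
  · exact hm.false_of_normalized hUfam h fun e he he1 =>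
      hm.theta_le he he1 fun E hE _ => hnorm E hE

variable {q : ℕ} [hq : Fact q.Prime]

/-- If `a` centralizes every maximal `q`-member, `θ a` is a `q'`-group. -/
theorem not_dvd_of_forall_isMaxQ {a : G} (ha : a ∈ A) (ha1 : a ≠ 1)
    (h : ∀ Q, IsMaxQ p q A θ Q → Q ≤ centralizer ({a} : Set G)) : ¬ q ∣ Nat.card (θ a) := by
  intro hqd
  haveI := hm.elem.1
  set π : Set ℕ := {r | r ≠ q} with hπ
  have hθa := theta_mem_family hm.func ha ha1
  obtain ⟨H, hH, hAH⟩ := Coprime.exists_invariant_hall A (θ a) (member_normalizer hθa)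
    (hm.coprime hθa) hθa.1 π
  have hle : θ a ≤ H := by
    refine hm.theta_le_of_pieces ha ha1 hH.1 hAH fun d hd hd1 => ?_
    have hθd := theta_mem_family hm.func hd hd1
    obtain ⟨H0, hH0, hAH0⟩ := Coprime.exists_invariant_hall A (θ d) (member_normalizer hθd)
      (hm.coprime hθd) hθd.1 π
    obtain ⟨S, hS⟩ := Coprime.exists_invariant_sylow A (θ d) (member_normalizer hθd)
      (hm.coprime hθd) (Or.inr hθd.1) q
    set S' := (S : Subgroup (θ d)).map (θ d).subtype with hS'
    have hS'le : S' ≤ θ d := map_subtype_le _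
    have hS'q : IsPGroup q S' := isPGroup_of_map_subtype S
    obtain ⟨Q, hSQ, hQ⟩ := exists_isMaxQ_ge (family_of_le' hθd hS'le hS) hS'q
    have hqH0 : ¬ q ∣ Nat.card H0 := fun h' => hH0.2.1 q hq.out h' rfl
    have hcop : (Nat.card H0).Coprime (Nat.card S') := by
      obtain ⟨n, hn⟩ := IsPGroup.iff_card.mp hS'q
      rw [hn]
      exact (hq.out.coprime_iff_not_dvd.mpr hqH0).symm.pow_right n
    have hdisj : H0 ⊓ S' = ⊥ := inf_eq_bot_of_coprime hcop
    let f : H0 × S' → θ d := fun x => ⟨(x.1 : G) * x.2, mul_mem (hH0.1 x.1.2) (hS'le x.2.2)⟩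
    have hf : Function.Injective f := fun x y e =>
      Subgroup.mul_injective_of_disjoint (disjoint_iff.mpr hdisj) (congrArg Subtype.val e)
    have hcard : Nat.card (θ d) ≤ Nat.card (H0 × S') := by
      rw [Nat.card_prod]
      refine Nat.le_of_dvd (Nat.mul_pos Nat.card_pos Nat.card_pos) ?_
      have hS'c : Nat.card S' = q ^ (Nat.card (θ d)).factorization q := by
        rw [hS', card_map_of_injective (θ d).subtype_injective]
        exact S.card_eq_multiplicity
      refine (Nat.factorization_prime_le_iff_dvd Nat.card_pos.ne'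
        (Nat.mul_pos Nat.card_pos Nat.card_pos).ne').mp fun r hr => ?_
      rw [Nat.factorization_mul Nat.card_pos.ne' Nat.card_pos.ne', Finsupp.add_apply]
      rcases eq_or_ne r q with rfl | hrq
      · refine le_add_left ?_
        rw [hS'c, hr.factorization_pow, Finsupp.single_eq_same]
      · refine le_add_right ?_
        have h1 := congrArg (fun n : ℕ => n.factorization r)
          ((mul_comm _ _).trans (Subgroup.relIndex_mul_relIndex ⊥ H0 (θ d) bot_le hH0.1))
        simp only [Subgroup.relIndex_bot_left] at h1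
        rw [Nat.factorization_mul (show H0.relIndex (θ d) ≠ 0 from Subgroup.index_ne_zero_of_finite) Nat.card_pos.ne',
          Finsupp.add_apply, Nat.factorization_eq_zero_of_not_dvd (hH0.2.2 r hr hrq), zero_add] at h1
        exact h1.ge
    have hP : ⁅θ d, zpowers a⁆ ≤ H0 := by
      refine commutator_zpowers_le (hAH0 ha) fun k hk => ?_
      obtain ⟨⟨x, y⟩, hxy⟩ := (hf.bijective_of_nat_card_le hcard).2 ⟨k, hk⟩
      have hk' : (x : G) * (y : G) = k := congrArg Subtype.val hxy
      have hya : (y : G) * a = a * y :=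
        mem_centralizer_singleton_iff.mp (h Q hQ (hSQ y.2))
      rw [← hk', show ⁅(x : G) * y, a⁆ = ⁅(x : G), a⁆ from by
        calc ⁅(x : G) * y, a⁆ = x * (y * a * (y : G)⁻¹) * (x : G)⁻¹ * a⁻¹ := by
              simp [commutatorElement_def, mul_assoc]
          _ = ⁅(x : G), a⁆ := by rw [hya]; simp [commutatorElement_def, mul_assoc]]
      rw [show ⁅(x : G), a⁆ = x * (a * (x : G)⁻¹ * a⁻¹) by simp [commutatorElement_def, mul_assoc]]
      exact mul_mem x.2 (conj_mem_of_mem_normalizer (hAH0 ha) (inv_mem x.2))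
    set P := ⁅θ d, zpowers a⁆ ⊓ centralizer ({a} : Set G) with hPd
    have hza : zpowers a ≤ A := zpowers_le.mpr ha
    have hPle : P ≤ θ a := le_trans (inf_le_inf_right _
      (Coprime.commutator_le_of_le_normalizer (hza.trans (member_normalizer hθd))))
      (hm.func.1.2.2.2 d hd hd1 a ha ha1)
    obtain ⟨H1, hH1, hAH1, hPH1⟩ := Coprime.exists_invariant_hall_ge (Nat.card (θ a)) G A (θ a) P
      (member_normalizer hθa) (hm.coprime hθa) hθa.1 rfl hPle
      (Coprime.le_normalizer_inf (le_normalizer_commutator (member_normalizer hθd) (by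
          refine le_trans ?_ (centralizer_le_normalizer _)
          rw [centralizer_zpowers]
          exact le_centralizer_singleton hm.elem ha))
        ((le_centralizer_singleton hm.elem ha).trans le_normalizer))
      π fun r hr hrd => hH0.2.1 r hr (hrd.trans (card_dvd_of_le (inf_le_left.trans hP)))
    obtain ⟨c, hc, he⟩ := Coprime.exists_invariant_hall_conj A (θ a) (member_normalizer hθa)
      (hm.coprime hθa) hθa.1 hH1 hAH1 hH hAH
    have hcd : c ∈ θ d := hm.func.1.2.2.2 a ha ha1 d hd hd1 (mem_inf.mpr ⟨(mem_inf.mp hc).1,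
      mem_centralizer_singleton_iff.mpr (mem_centralizer_iff.mp (mem_inf.mp hc).2 d hd).symm⟩)
    have hcP : c ∈ normalizer (P : Set G) := by
      refine (Coprime.le_normalizer_inf (A := zpowers c) ?_ ?_) (mem_zpowers c)
      · exact zpowers_le.mpr (le_normalizer_commutator_left _ _ hcd)
      · exact zpowers_le.mpr (le_normalizer (hm.func.1.1 a ha ha1 (mem_inf.mp hc).1))
    rw [← he, ← map_conj_eq_self hcP]
    exact map_mono hPH1
  exact hH.2.1 q hq.out (hqd.trans (card_dvd_of_le hle)) rfl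

omit hq in
/-- No nontrivial element of `A` centralizes all cores of a maximal member containing its value. -/
theorem false_of_centralizes {a : G} (ha : a ∈ A) (ha1 : a ≠ 1) {M : Subgroup G}
    (hM : M ∈ signalizerFamily p A θ) (haM : θ a ≤ M)
    (hmax : ∀ U ∈ signalizerFamily p A θ, M ≤ U → U = M) (hMne : M ≠ ⊥)
    (hc : ∀ r : ℕ, r.Prime → pCoreOf r M ≤ centralizer ({a} : Set G)) : False := by
  have hza : zpowers a ≤ A := zpowers_le.mpr ha
  have hzM : zpowers a ≤ normalizer (M : Set G) := hza.trans (member_normalizer hM)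
  have hcopa : (Nat.card (zpowers a)).Coprime (Nat.card M) :=
    (hm.coprime hM).coprime_dvd_left (card_dvd_of_le hza)
  set F := (fittingSubgroup M).map M.subtype with hF
  have hFa : F ≤ centralizer ({a} : Set G) := by
    rintro _ ⟨x, hx, rfl⟩
    rw [Fitting.fitting_eq_iSup_pCore] at hx
    refine (iSup_le fun r : {r : ℕ // r.Prime} => ?_ : _ ≤ (centralizer ({a} : Set G)).comap M.subtype) hx
    exact fun y hy => hc r r.2 ⟨y, hy, rfl⟩
  have hMMa : ⁅M, zpowers a⁆ ≤ M := Coprime.commutator_le_of_le_normalizer hzM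
  have hcommF : ⁅M, zpowers a⁆ ≤ F := by
    refine le_fitting_of_centralizes hM.1 hMMa fun r hr => ?_
    set R := pCoreOf r M with hR
    rw [← commutator_eq_bot_iff_le_centralizer]
    refine commutator_commutator_eq_bot_of_rotate ?_ ?_
    · rw [show ⁅zpowers a, R⁆ = ⊥ by
        rw [commutator_comm, commutator_eq_bot_iff_le_centralizer, centralizer_zpowers]
        exact hc r hr, commutator_bot_left]
    · have h1 : ⁅R, M⁆ ≤ R := Coprime.commutator_le_of_le_normalizer le_normalizer_pCoreOf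
      rw [← le_bot_iff]
      refine (commutator_mono h1 le_rfl).trans ?_
      rw [le_bot_iff, commutator_eq_bot_iff_le_centralizer, centralizer_zpowers]
      exact hc r hr
  have h2 : ⁅M, zpowers a⁆ = ⊥ := by
    rw [← Coprime.commutator_commutator_eq (zpowers a) M hzM hcopa (Or.inr hM.1), eq_bot_iff]
    refine (commutator_mono hcommF le_rfl).trans ?_
    rw [le_bot_iff, commutator_eq_bot_iff_le_centralizer, centralizer_zpowers]
    exact hFa
  rw [commutator_eq_bot_iff_le_centralizer, centralizer_zpowers] at h2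
  have hMa : M ≤ θ a := fun x hx => hM.2.2.2 a ha ha1 (mem_inf.mpr ⟨hx, h2 hx⟩)
  have hMθ : M = θ a := le_antisymm hMa haM
  haveI : Nontrivial M := (nontrivial_iff_ne_bot M).mpr hMne
  haveI := hM.1
  obtain ⟨q, hqO⟩ : ∃ q : {q : ℕ // q.Prime}, pCore (q : ℕ) M ≠ ⊥ := by
    by_contra h
    push Not at h
    have hbot : fittingSubgroup M = ⊥ := by
      rw [Fitting.fitting_eq_iSup_pCore, iSup_eq_bot]
      exact h
    refine bot_ne_top (le_antisymm bot_le ?_ : (⊥ : Subgroup M) = ⊤)
    rw [← hbot]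
    refine le_trans ?_ Fitting.centralizer_fitting_le
    rw [hbot]
    exact fun x _ => mem_centralizer_iff.mpr fun y hy => by simp [mem_bot.mp hy]
  haveI : Fact (q : ℕ).Prime := ⟨q.2⟩
  set O := pCoreOf (q : ℕ) (θ a) with hO
  have hθa := theta_mem_family hm.func ha ha1
  have hOfam : O ∈ signalizerFamily p A θ := hm.core_mem_family ha ha1
  have hOne : O ≠ ⊥ := by
    rw [hO, ← hMθ]
    exact fun h => hqO ((map_eq_bot_iff_of_injective _ M.subtype_injective).mp h)
  obtain ⟨Q, hQ⟩ := hm.exists_isMaxQ (q := (q : ℕ))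
  have hOQ : O ≤ Q := hm.core_le_isMaxQ hQ ha ha1
  have hOa : O ≤ centralizer ({a} : Set G) := pCoreOf_le.trans (hm.func.1.1 a ha ha1)
  obtain ⟨N, hN, hNn, hNmax⟩ := hm.exists_normalizer_member hOfam hOne
  have hNM : N = θ a := (hmax N hN (hMa.trans (hNmax _ hθa le_normalizer_pCoreOf))).trans hMθ
  have hQC : Q ⊓ centralizer (O : Set G) ≤ centralizer ({a} : Set G) := by
    refine le_trans ?_ (hm.func.1.1 a ha ha1)
    rw [← hNM]
    refine hNmax _ (family_of_le' hQ.1.1 inf_le_left (Coprime.le_normalizer_inf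
      (member_normalizer hQ.1.1) (Coprime.le_normalizer_centralizer (member_normalizer hOfam))))
      (inf_le_right.trans (centralizer_le_normalizer _))
  have hzQ : zpowers a ≤ centralizer (Q : Set G) := by
    refine Coprime.thompson_pxq (q : ℕ) O (zpowers a) Q isPGroup_pCoreOf ?_ hQ.1.2 ?_
      (hOQ.trans le_normalizer) (hza.trans (member_normalizer hQ.1.1)) ?_
    · refine Nat.Coprime.coprime_dvd_right ?_ ((hm.coprime hθa).coprime_dvd_left (card_dvd_of_le hza))
      obtain ⟨n, hn⟩ := IsPGroup.iff_card.mp (isPGroup_pCoreOf (q := (q : ℕ)) (H := θ a))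
      refine dvd_trans ?_ (card_dvd_of_le (pCoreOf_le (q := (q : ℕ))))
      rw [hn]
      refine dvd_pow_self _ fun h0 => hOne (eq_bot_of_card_le _ ?_)
      rw [hn, h0, pow_zero]
    · rw [centralizer_zpowers]
      exact hOa
    · rw [centralizer_zpowers]
      exact hQC
  rw [zpowers_le_centralizer_iff] at hzQ
  refine hm.not_dvd_of_forall_isMaxQ (q := (q : ℕ)) ha ha1 (fun Q' hQ' => ?_) ?_
  · obtain ⟨c, hc', he⟩ := isMaxQ_conj hm.elem hm.rank hm.func hQ hQ'
    have hca : c * a = a * c :=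
      mem_centralizer_singleton_iff.mp (hm.func.1.1 a ha ha1 (signalizerInf_le ha ha1 hc'))
    rw [← he]
    rintro _ ⟨x, hx, rfl⟩
    refine mem_centralizer_singleton_iff.mpr ?_
    show c * x * c⁻¹ * a = a * (c * x * c⁻¹)
    have hxa := mem_centralizer_singleton_iff.mp (hzQ hx)
    calc c * x * c⁻¹ * a = c * x * (c⁻¹ * (a * c)) * c⁻¹ := by group
      _ = c * (x * a) * c⁻¹ := by rw [← hca]; group
      _ = c * (a * x) * c⁻¹ := by rw [hxa]
      _ = (c * a) * x * c⁻¹ := by group
      _ = a * (c * x * c⁻¹) := by rw [hca]; group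
  · obtain ⟨n, hn⟩ := IsPGroup.iff_card.mp (isPGroup_pCoreOf (q := (q : ℕ)) (H := θ a))
    refine dvd_trans ?_ (card_dvd_of_le (pCoreOf_le (q := (q : ℕ))))
    rw [hn]
    refine dvd_pow_self _ fun h0 => hOne (eq_bot_of_card_le _ ?_)
    rw [hn, h0, pow_zero]

end IsMinBad

end Cfsg.Agent.SFT49
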