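import Cfsg.Agent.SFT49.Plane

/-!
The exceptional prime `2`: `K_2` is trivial, the elements that are bad for an odd prime span `A`,
and the centre of a maximal `2`-member lies in `θ(A)`.
-/

set_option autoImplicit false
set_option linter.style.haveILetI false
set_option maxHeartbeats 400000

universe u

namespace Cfsg.Agent.SFT49

open Subgroup Coprime Signal38 SFT45
open scoped commutatorElement IsMulCommutative Pointwise

variable {G : Type u} [Group G] [Finite G] {p : ℕ} [hp : Fact p.Prime] {A : Subgroup G}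
  {θ : G → Subgroup G}

/-- The centre of a subgroup, as a subgroup of the whole group. -/
def centerOf (Q : Subgroup G) : Subgroup G := Q ⊓ centralizer (Q : Set G)

theorem centerOf_ne_bot {q : ℕ} [Fact q.Prime] {Q : Subgroup G} (hQ : IsPGroup q Q) (hne : Q ≠ ⊥) :
    centerOf Q ≠ ⊥ := by
  haveI := (nontrivial_iff_ne_bot Q).mpr hne
  intro h
  haveI := hQ.center_nontrivial
  obtain ⟨z, hz⟩ := exists_ne (1 : center Q)
  refine hz (Subtype.ext (Subtype.ext ?_))
  have hmem : ((z : Q) : G) ∈ centerOf Q := ⟨(z : Q).2, mem_centralizer_iff.mpr fun y hy =>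
    congrArg Subtype.val (mem_center_iff.mp z.2 ⟨y, hy⟩)⟩
  rw [h] at hmem
  exact mem_bot.mp hmem

/-- A `q`-element of the Fitting subgroup lies in `O_q`. -/
theorem mem_pCore_of_mem_fitting {q : ℕ} [Fact q.Prime] {x : G} (hx : x ∈ fittingSubgroup G)
    {k : ℕ} (hk : x ^ q ^ k = 1) : x ∈ pCore q G := by
  haveI := Fitting.fitting_isNilpotent (G := G)
  have hq : IsPGroup q (zpowers (⟨x, hx⟩ : fittingSubgroup G)) := by
    rintro ⟨y, hy⟩
    obtain ⟨i, rfl⟩ := mem_zpowers_iff.mp hy
    refine ⟨k, Subtype.ext (Subtype.ext ?_)⟩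
    show (x ^ i) ^ q ^ k = 1
    rw [← zpow_natCast, ← zpow_mul, mul_comm, zpow_mul, zpow_natCast, hk, one_zpow]
  obtain ⟨S, hS⟩ := hq.exists_le_sylow
  haveI : (S : Subgroup (fittingSubgroup G)).Normal :=
    ((Group.isNilpotent_of_finite_tfae (G := fittingSubgroup G)).out 0 3 rfl rfl).mp
      Fitting.fitting_isNilpotent q inferInstance S
  haveI := S.characteristic_of_normal inferInstance
  haveI : (fittingSubgroup G).Normal := inferInstance
  exact Thompson.le_pCore (Thompson.map_subtype_normal_of_characteristic _ _)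
    (isPGroup_of_map_subtype S) ⟨_, hS (mem_zpowers _), rfl⟩

/-- A coprime operator centralizing every core of a solvable group centralizes the group. -/
theorem le_centralizer_of_centralizes_cores {W : Subgroup G} (hW : Group.IsSolvable W) {g : G}
    (hgW : g ∈ normalizer (W : Set G)) (hcop : (Nat.card (zpowers g)).Coprime (Nat.card W))
    (hc : ∀ r : ℕ, r.Prime → pCoreOf r W ≤ centralizer ({g} : Set G)) :
    W ≤ centralizer ({g} : Set G) := by
  have hzW : zpowers g ≤ normalizer (W : Set G) := zpowers_le.mpr hgW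
  have hWg : ⁅W, zpowers g⁆ ≤ W := Coprime.commutator_le_of_le_normalizer hzW
  set F := (fittingSubgroup W).map W.subtype with hF
  have hFa : F ≤ centralizer ({g} : Set G) := by
    rintro _ ⟨x, hx, rfl⟩
    rw [Fitting.fitting_eq_iSup_pCore] at hx
    refine (iSup_le fun r : {r : ℕ // r.Prime} => ?_ : _ ≤ (centralizer ({g} : Set G)).comap W.subtype) hx
    exact fun y hy => hc r r.2 ⟨y, hy, rfl⟩
  have hcommF : ⁅W, zpowers g⁆ ≤ F := by
    refine le_fitting_of_centralizes hW hWg fun r hr => ?_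
    rw [← commutator_eq_bot_iff_le_centralizer]
    refine commutator_commutator_eq_bot_of_rotate ?_ ?_
    · rw [show ⁅zpowers g, pCoreOf r W⁆ = ⊥ by
        rw [commutator_comm, commutator_eq_bot_iff_le_centralizer, centralizer_zpowers]
        exact hc r hr, commutator_bot_left]
    · rw [← le_bot_iff]
      refine (commutator_mono (Coprime.commutator_le_of_le_normalizer le_normalizer_pCoreOf :
        ⁅pCoreOf r W, W⁆ ≤ pCoreOf r W) le_rfl).trans ?_
      rw [le_bot_iff, commutator_eq_bot_iff_le_centralizer, centralizer_zpowers]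
      exact hc r hr
  rw [← centralizer_zpowers, ← commutator_eq_bot_iff_le_centralizer,
    ← Coprime.commutator_commutator_eq (zpowers g) W hzW hcop (Or.inr hW), eq_bot_iff]
  refine (commutator_mono hcommF le_rfl).trans ?_
  rw [le_bot_iff, commutator_eq_bot_iff_le_centralizer, centralizer_zpowers]
  exact hFa

namespace IsMinBad

variable (hm : IsMinBad p A θ)
include hm

/-- `⁅J, a⁆ ≤ K_q` for a commutative `q`-member normalized by `θ a`, without exception. -/
theorem commutator_le_bigK_of_comm {q : ℕ} [Fact q.Prime] {J : Subgroup G}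
    (hJ : J ∈ signalizerFamily p A θ) (hJq : IsPGroup q J) (hJc : J ≤ centralizer (J : Set G))
    {a : G} (ha : a ∈ A) (ha1 : a ≠ 1) (hJn : θ a ≤ normalizer (J : Set G)) :
    ⁅J, zpowers a⁆ ≤ bigK p q A θ := by
  haveI := hm.elem.1
  refine commutator_le_of_pieces A ha
    (fun B : {B : Subgroup G // IsHyp p A B} => centralizer ((B : Subgroup G) : Set G))
    (fun B => le_normalizer_centralizer_of_le hm.elem B.2.1) J _ (member_normalizer hJ)
    (hm.coprime hJ) hJ.1 (fun D hD hAD H hH => ?_) fun B => ?_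
  · exact le_of_forall_hyp hm.elem hAD ((family_coprime hJ).coprime_dvd_right (card_dvd_of_le hD))
      fun B hB => hH ⟨B, hB⟩
  · refine le_trans (le_iInf fun d => ?_)
      (le_iSup (fun B : {B : Subgroup G // IsHyp p A B} => delta q θ (B : Subgroup G)) B)
    obtain ⟨d, hd, hd1⟩ := d
    have hdA : d ∈ A := B.2.1 hd
    have hnC : centralizer ({d} : Set G) ≤ normalizer (centralizer ({d} : Set G) : Set G) := le_normalizer
    refine le_trans (commutator_mono (inf_le_inf_left _
      (centralizer_le (Set.singleton_subset_iff.mpr hd))) le_rfl) ?_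
    refine commutator_le_pCoreOf' (θ d) (J ⊓ centralizer ({d} : Set G))
      (fun _ _ x hx y hy => (mem_centralizer_iff.mp (hJc (mem_inf.mp hx).1) y (mem_inf.mp hy).1).symm)
      (hm.func.2 d hdA hd1) a (hm.elem.2 a ha)
      (member_normalizer (theta_mem_family hm.func hdA hd1) ha) (hm.func.1.2.1 d hdA hd1)
      (hJ.2.2.2 d hdA hd1) (hJq.to_le inf_le_left)
      (Coprime.le_normalizer_inf (member_normalizer hJ)
        ((le_centralizer_singleton hm.elem hdA).trans hnC) ha) ?_
    refine Coprime.le_normalizer_inf ?_ (inf_le_left.trans ((hm.func.1.1 d hdA hd1).trans hnC))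
    exact fun x hx => hJn (hm.func.1.2.2.2 d hdA hd1 a ha ha1 hx)

/-- An element that is not good for some prime moves only the `2`-core of every maximal member. -/
theorem wComm_eq_bot_of_not_isGood {t : ℕ} [Fact t.Prime] {b : G} (hb : b ∈ A) (hb1 : b ≠ 1)
    (hbad : ¬ IsGood p t A θ b) {M : Subgroup G} (hM : IsMaxAbove p A θ b M) {r : ℕ}
    (hr : r.Prime) (hr2 : r ≠ 2) : wComm r M b = ⊥ := by
  haveI := Fact.mk hr
  by_contra hne
  exact hbad (hm.isGood_of_wComm hb hb1 (fun h => absurd h hr2) hM hne t)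

/-- `K_2` is trivial. -/
theorem bigK_two_eq_bot : bigK p 2 A θ = ⊥ := by
  haveI := Fact.mk Nat.prime_two
  by_contra hK
  obtain ⟨b, hb, hb1, hbad⟩ := hm.exists_not_isGood hK
  obtain ⟨M, -, hM⟩ := hm.exists_maxAbove_ge (theta_mem_family hm.func hb hb1) (le_refl (θ b))
  obtain ⟨r, hr, hne⟩ := hm.exists_wComm_ne_bot hb hb1 hM
  haveI := Fact.mk hr
  rcases eq_or_ne r 2 with rfl | hr2
  · exact hbad (hm.isGood_of_pCoreOf hb hb1 hM fun h =>
      hne (le_bot_iff.mp ((hm.wComm_mem hb hM.1).1.trans h.le)))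
  · exact hne (hm.wComm_eq_bot_of_not_isGood hb hb1 hbad hM hr hr2)

/-- If `θ_B` normalizes `K` for all hyperplanes `B` not containing `a`, so does `θ a`. -/
theorem theta_le_normalizer_of_notMem {K : Subgroup G} (hAK : A ≤ normalizer (K : Set G)) {a : G}
    (ha : a ∈ A) (ha1 : a ≠ 1)
    (h : ∀ B : Subgroup G, IsHyp p A B → a ∉ B → signalizerInf B θ ≤ normalizer (K : Set G)) :
    θ a ≤ normalizer (K : Set G) := by
  haveI := hm.elem.1
  have hAN : A ≤ normalizer (normalizer (K : Set G) : Set G) := Coprime.le_normalizer_normalizer hAK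
  have hθa := theta_mem_family hm.func ha ha1
  refine le_trans (hm.theta_le_of_pieces ha ha1 (H := θ a ⊓ normalizer (K : Set G)) inf_le_left
    (Coprime.le_normalizer_inf (member_normalizer hθa) hAN) fun d hd hd1 => ?_) inf_le_right
  have hθd := theta_mem_family hm.func hd hd1
  refine le_inf (le_trans (inf_le_inf_right _
    (Coprime.commutator_le_of_le_normalizer ((zpowers_le.mpr ha).trans (member_normalizer hθd))))
    (hm.func.1.2.2.2 d hd hd1 a ha ha1)) (inf_le_left.trans ?_)
  refine commutator_le_of_pieces A ha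
    (fun B : {B : Subgroup G // IsHyp p A B} => centralizer ((B : Subgroup G) : Set G))
    (fun B => le_normalizer_centralizer_of_le hm.elem B.2.1) (θ d) _ (member_normalizer hθd)
    (hm.coprime hθd) hθd.1 (fun D hD hAD H hH => ?_) fun B => ?_
  · exact le_of_forall_hyp hm.elem hAD ((family_coprime hθd).coprime_dvd_right (card_dvd_of_le hD))
      fun B hB => hH ⟨B, hB⟩
  · by_cases haB : a ∈ (B : Subgroup G)
    · refine le_trans (le_of_eq ?_) bot_le
      rw [commutator_eq_bot_iff_le_centralizer, centralizer_zpowers]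
      exact inf_le_right.trans (centralizer_le (Set.singleton_subset_iff.mpr haB))
    · refine (commutator_le_self _).trans' (commutator_mono ?_ ?_)
      · exact (inf_centralizer_le_signalizerInf hθd B.2.1).trans (h B B.2 haB)
      · exact zpowers_le.mpr (hAK ha)

/-- The elements bad for an odd prime `t` with `K_t` nontrivial span `A`. -/
theorem exists_not_isGood_notMem {t : ℕ} [Fact t.Prime] (ht : t ≠ 2) (hK : bigK p t A θ ≠ ⊥)
    {D : Subgroup G} (hD : D ≤ A) (hDA : D ≠ A) :
    ∃ b ∈ A, b ∉ D ∧ ¬ IsGood p t A θ b := by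
  by_contra hcon
  push Not at hcon
  have hnorm : ∀ B : Subgroup G, IsHyp p A B → ¬ B ≤ D →
      signalizerInf B θ ≤ normalizer (bigK p t A θ : Set G) := fun B hB hBD =>
    hm.signalizerInf_le_normalizer_bigK (fun h => absurd h ht) hB fun D' hD'B hne => by
      obtain ⟨x, hx, hxD'⟩ := SetLike.exists_of_lt (lt_of_le_of_ne hD'B hne)
      obtain ⟨y, hy, hyD⟩ := SetLike.not_le_iff_exists.mp hBD
      by_cases hxD : x ∈ D
      · by_cases hyD' : y ∈ D'
        · exact ⟨x * y, mul_mem hx hy, fun h => hxD' (by simpa using mul_mem h (inv_mem hyD')),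
            hcon _ (hB.1 (mul_mem hx hy)) fun h => hyD (by simpa using mul_mem (inv_mem hxD) h)⟩
        · exact ⟨y, hy, hyD', hcon _ (hB.1 hy) hyD⟩
      · exact ⟨x, hx, hxD', hcon _ (hB.1 hx) hxD⟩
  obtain ⟨y, hy, hyD⟩ := SetLike.exists_of_lt (lt_of_le_of_ne hD hDA)
  refine hm.false_of_normalized hm.bigK_mem_family.1 hK fun a ha ha1 => ?_
  by_cases haD : a ∈ D
  · exact hm.theta_le_normalizer_of_notMem (member_normalizer hm.bigK_mem_family.1) ha ha1
      fun B hB haB => hnorm B hB fun hBD => haB (by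
        by_contra hna
        have hstep : ∀ X Y : Subgroup G, X < Y → Y ≤ A → p * Nat.card X ≤ Nat.card Y := by
          intro X Y hXY hYA
          have hY := (isPGroup_of_elementary hm.elem).to_le hYA
          obtain ⟨i, hi⟩ := IsPGroup.iff_card.mp hY
          obtain ⟨j, hj⟩ := IsPGroup.iff_card.mp (hY.to_le hXY.le)
          have hlt : Nat.card X < Nat.card Y := lt_of_le_of_ne (card_le_of_le hXY.le) fun h =>
            hXY.ne (eq_of_le_of_card_ge hXY.le h.ge)
          rw [hi, hj] at hlt ⊢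
          rw [← pow_succ']
          exact Nat.pow_le_pow_right hp.out.pos ((Nat.pow_lt_pow_iff_right hp.out.one_lt).mp hlt)
        have h1 := hstep B D (lt_of_le_of_ne hBD fun h => hna (h.ge haD)) hD
        have h2 := hstep D A (lt_of_le_of_ne hD hDA) le_rfl
        have h3 : 0 < Nat.card B := Nat.card_pos
        nlinarith [hB.2, hp.out.two_le])
  · exact hm.theta_le ha ha1 fun B hB haB => hnorm B hB fun hBD => haD (hBD haB)

/-- An element moving only `2`-cores has the centre of every maximal `2`-member in its value. -/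
theorem centerOf_le_theta {Q : Subgroup G} (hQ : IsMaxQ p 2 A θ Q) {b : G} (hb : b ∈ A) (hb1 : b ≠ 1)
    {M : Subgroup G} (hM : IsMaxAbove p A θ b M)
    (hodd : ∀ r : ℕ, r.Prime → r ≠ 2 → wComm r M b = ⊥) : centerOf Q ≤ θ b := by
  haveI := Fact.mk Nat.prime_two
  haveI := hm.elem.1
  have hzb : zpowers b ≤ A := zpowers_le.mpr hb
  set R := pCoreOf 2 M with hR
  have hAR : A ≤ normalizer (R : Set G) :=
    (member_normalizer hM.1).trans normalizer_le_normalizer_pCoreOf
  have hRfam : R ∈ signalizerFamily p A θ := family_of_le' hM.1 pCoreOf_le hAR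
  obtain ⟨r, hr, hne⟩ := hm.exists_wComm_ne_bot hb hb1 hM
  have hr2 : r = 2 := by_contra fun h => hne (hodd r hr h)
  subst hr2
  have hRne : R ≠ ⊥ := fun h => hne (le_bot_iff.mp ((hm.wComm_mem hb hM.1).1.trans h.le))
  have hRQ : R ≤ Q := hm.le_isMaxQ hRfam isPGroup_pCoreOf
    ((hm.signalizerInf_le_of_maxAbove hb hb1 hM).trans le_normalizer_pCoreOf) hQ
  set Z := centerOf Q with hZ
  have hAZ : A ≤ normalizer (Z : Set G) := Coprime.le_normalizer_inf (member_normalizer hQ.1.1)
    (Coprime.le_normalizer_centralizer (member_normalizer hQ.1.1))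
  have hZfam : Z ∈ signalizerFamily p A θ := family_of_le' hQ.1.1 inf_le_left hAZ
  have hZR : Z ≤ centralizer (R : Set G) := inf_le_right.trans (centralizer_le hRQ)
  obtain ⟨N, hN, -, hNmax⟩ := hm.exists_normalizer_member hRfam hRne
  have hNM : N = M := hM.2.2 N hN (hNmax M hM.1 le_normalizer_pCoreOf)
  have hZM : Z ≤ M := hNM ▸ hNmax Z hZfam (hZR.trans (centralizer_le_normalizer _))
  set U := ⁅Z, zpowers b⁆ with hU
  have hUZ : U ≤ Z := Coprime.commutator_le_of_le_normalizer (hzb.trans hAZ)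
  have hcent : ∀ r : ℕ, r.Prime → U ≤ centralizer (pCoreOf r M : Set G) := by
    intro r hr
    rcases eq_or_ne r 2 with rfl | hr2
    · exact hUZ.trans hZR
    rw [← commutator_eq_bot_iff_le_centralizer]
    have hw : ⁅pCoreOf r M, zpowers b⁆ = ⊥ := hodd r hr hr2
    refine commutator_commutator_eq_bot_of_rotate ?_ ?_
    · rw [show ⁅zpowers b, pCoreOf r M⁆ = ⊥ by rw [commutator_comm]; exact hw, commutator_bot_left]
    · rw [← le_bot_iff, ← hw]
      exact commutator_mono (Coprime.commutator_le_of_le_normalizer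
        (hZM.trans le_normalizer_pCoreOf)) le_rfl
  have hUR : U ≤ R := by
    haveI := hM.1.1
    have hU2 : IsPGroup 2 U := hQ.1.2.to_le (hUZ.trans inf_le_left)
    have hfit := le_fitting_of_centralizes hM.1.1 (hUZ.trans hZM) hcent
    intro x hx
    obtain ⟨y, hy, rfl⟩ := hfit hx
    obtain ⟨k, hk⟩ := hU2 ⟨_, hx⟩
    have hyk : y ^ 2 ^ k = 1 := Subtype.ext (by simpa using congrArg Subtype.val hk)
    exact ⟨y, mem_pCore_of_mem_fitting hy hyk, rfl⟩
  set J := R ⊓ centralizer (R : Set G) with hJ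
  have hUJ : U ≤ J := le_inf hUR (hUZ.trans hZR)
  have hRC : M ≤ normalizer (centralizer (R : Set G) : Set G) :=
    Coprime.le_normalizer_centralizer le_normalizer_pCoreOf
  have hJb : ⁅J, zpowers b⁆ = ⊥ := by
    rw [← le_bot_iff, ← hm.bigK_two_eq_bot]
    exact hm.commutator_le_bigK_of_comm (family_of_le' hRfam inf_le_left
      (Coprime.le_normalizer_inf hAR (Coprime.le_normalizer_centralizer hAR)))
      (isPGroup_pCoreOf.to_le inf_le_left) (inf_le_right.trans (centralizer_le inf_le_left)) hb hb1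
      (hM.2.1.trans (Coprime.le_normalizer_inf le_normalizer_pCoreOf hRC))
  have hU1 : U = ⊥ := by
    rw [hU, ← Coprime.commutator_commutator_eq (zpowers b) Z (hzb.trans hAZ)
      ((hm.coprime hZfam).coprime_dvd_left (card_dvd_of_le hzb)) (Or.inr hZfam.1), ← le_bot_iff,
      ← hJb]
    exact commutator_mono hUJ le_rfl
  rw [hU, commutator_eq_bot_iff_le_centralizer, centralizer_zpowers] at hU1
  exact fun z hz => hZfam.2.2.2 b hb hb1 (mem_inf.mpr ⟨hz, hU1 hz⟩)

/-- The centre of a maximal `2`-member lies in `θ(A)`. -/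
theorem centerOf_le_signalizerInf {Q : Subgroup G} (hQ : IsMaxQ p 2 A θ Q) :
    centerOf Q ≤ signalizerInf A θ := by
  haveI := Fact.mk Nat.prime_two
  have hmax : ∀ b ∈ A, b ≠ 1 → ∃ M, IsMaxAbove p A θ b M := fun b hb hb1 =>
    ⟨_, (hm.exists_maxAbove_ge (theta_mem_family hm.func hb hb1) (le_refl (θ b))).choose_spec.2⟩
  by_cases hK : ∀ t : ℕ, t.Prime → t ≠ 2 → bigK p t A θ = ⊥
  · intro z hz
    refine mem_signalizerInf.mpr fun b hb hb1 => ?_
    obtain ⟨M, hM⟩ := hmax b hb hb1
    refine hm.centerOf_le_theta hQ hb hb1 hM (fun r hr hr2 => ?_) hz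
    haveI := Fact.mk hr
    exact le_bot_iff.mp ((hm.wComm_le_bigK hb hb1 (fun h => absurd h hr2) hM.1 hM.2.1).trans
      (hK r hr hr2).le)
  push Not at hK
  obtain ⟨t, ht, ht2, hKt⟩ := hK
  haveI := Fact.mk ht
  have hbadle : ∀ b ∈ A, b ≠ 1 → ¬ IsGood p t A θ b → centerOf Q ≤ θ b := fun b hb hb1 hbad => by
    obtain ⟨M, hM⟩ := hmax b hb hb1
    exact hm.centerOf_le_theta hQ hb hb1 hM fun r hr hr2 =>
      hm.wComm_eq_bot_of_not_isGood hb hb1 hbad hM hr hr2
  intro z hz
  set D := A ⊓ centralizer ({z} : Set G) with hD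
  have hDA : D = A := by
    by_contra hne
    obtain ⟨b, hb, hbD, hbad⟩ := hm.exists_not_isGood_notMem ht2 hKt inf_le_left hne
    have hb1 : b ≠ 1 := fun h => hbD (h ▸ one_mem D)
    exact hbD (mem_inf.mpr ⟨hb, mem_centralizer_singleton_iff.mpr
      (mem_centralizer_singleton_iff.mp (hm.func.1.1 b hb hb1 (hbadle b hb hb1 hbad hz))).symm⟩)
  obtain ⟨b, hb, hb1, hbad⟩ := hm.exists_not_isGood hKt
  refine mem_signalizerInf.mpr fun c hc hc1 => hm.func.1.2.2.2 b hb hb1 c hc hc1
    (mem_inf.mpr ⟨hbadle b hb hb1 hbad hz, mem_centralizer_singleton_iff.mpr ?_⟩)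
  exact (mem_centralizer_singleton_iff.mp (mem_inf.mp (hDA.ge hc)).2).symm

end IsMinBad

end Cfsg.Agent.SFT49
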